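import Cfsg.Agent.Lib.KnownSimple.PSUFour.Orbits

set_option autoImplicit false
set_option linter.unusedSectionVars false
set_option linter.unusedSimpArgs false
set_option linter.unnecessarySeqFocus false

/-!
Classes of triples under the normalising elements and the double count of orbits through them.
-/

namespace CfsgLib.KnownSimple.UFour

open CfsgLib.KnownSimple.Unitary
open scoped Pointwise

variable {F V : Type*} [Field F] [Fintype F] [AddCommGroup V] [Module F V] {D : HermData F V}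
  [FiniteDimensional F V]

open Classical in
/-- non-zero singular triples -/
noncomputable def sgCl (D : HermData F V) : Finset (F × F × F) :=
  Finset.univ.filter fun H => IsReal D H ∧ H ≠ 0 ∧ Qf D H = 0

open Classical in
/-- triples whose quadratic value lies in a given square class -/
noncomputable def nsCl (D : HermData F V) (δ : F) : Finset (F × F × F) :=
  Finset.univ.filter fun H => IsReal D H ∧ ∃ r : F, D.σ r = r ∧ r ≠ 0 ∧ Qf D H = r ^ 2 * δ

theorem mem_sgCl {H : F × F × F} : H ∈ sgCl D ↔ IsReal D H ∧ H ≠ 0 ∧ Qf D H = 0 := by simp [sgCl]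

theorem mem_nsCl {δ : F} {H : F × F × F} :
    H ∈ nsCl D δ ↔ IsReal D H ∧ ∃ r : F, D.σ r = r ∧ r ≠ 0 ∧ Qf D H = r ^ 2 * δ := by simp [nsCl]

namespace Fr

variable (P : Fr D) {Ω : Type*} [MulAction D.SUgrp Ω]

variable (Ω) in
/-- related by a normalising element -/
def Rel (H H' : F × F × F) : Prop := ∃ g ρ, P.Lev Ω g ρ ∧ ρ H = H'

theorem Rel.trans {H H' H'' : F × F × F} (h : P.Rel Ω H H') (h' : P.Rel Ω H' H'') : P.Rel Ω H H'' := by
  obtain ⟨g, ρ, hl, rfl⟩ := h
  obtain ⟨g', ρ', hl', rfl⟩ := h'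
  exact ⟨g' * g, ρ.trans ρ', Lev.trans P hl hl', rfl⟩

theorem Rel.symm {H H' : F × F × F} (h : P.Rel Ω H H') : P.Rel Ω H' H := by
  obtain ⟨g, ρ, hl, rfl⟩ := h
  exact ⟨g⁻¹, ρ.symm, Lev.symm P hl, ρ.symm_apply_apply H⟩

variable (Ω) in
/-- a class closed under the normalising elements -/
def Closed (Cl : Finset (F × F × F)) : Prop :=
  ∀ g ρ, P.Lev Ω g ρ → ∀ H, ρ H ∈ Cl ↔ H ∈ Cl

theorem sgCl_closed : P.Closed Ω (sgCl D) := by
  intro g ρ hl H
  rw [mem_sgCl, mem_sgCl, hl.real]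
  refine and_congr_right fun hH => ?_
  obtain ⟨r, hr, hr0, hq⟩ := hl.quad
  rw [hq H hH, ρ.map_ne_zero_iff, mul_eq_zero]
  simp [hr0]

theorem nsCl_closed (δ : F) : P.Closed Ω (nsCl D δ) := by
  intro g ρ hl H
  rw [mem_nsCl, mem_nsCl, hl.real]
  refine and_congr_right fun hH => ?_
  obtain ⟨r, hr, hr0, hq⟩ := hl.quad
  rw [hq H hH]
  constructor
  · rintro ⟨t, ht, ht0, h⟩
    refine ⟨t / r, by rw [map_div₀, ht, hr], div_ne_zero ht0 hr0, ?_⟩
    rw [div_pow, div_mul_eq_mul_div, eq_div_iff (pow_ne_zero 2 hr0), mul_comm _ (r ^ 2), h]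
  · rintro ⟨t, ht, ht0, h⟩
    exact ⟨r * t, by rw [map_mul, ht, hr], mul_ne_zero hr0 ht0, by rw [h]; ring⟩

/-- counting orbits through the members of a class -/
theorem count [Finite Ω] {Cl : Finset (F × F × F)} (hcl : P.Closed Ω Cl) (ω : Ω) {h : F × F × F}
    (hh : h ∈ P.del ω) (hconn : ∀ H ∈ Cl, P.Rel Ω h H) {m : ℕ} (gs : Fin m → D.SUgrp)
    (hgs : ∀ i, ∃ ρ, P.Lev Ω (gs i) ρ ∧ ρ h = h)
    (hinj : Function.Injective fun i => P.orb (gs i • ω)) :
    ∃ U : Set Ω, (∀ y ∈ U, Nat.card (P.del y) = Nat.card (P.del ω)) ∧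
      m * Cl.card * Nat.card (P.del ω) ≤ U.ncard * {H | H ∈ Cl ∧ H ∈ P.del ω}.ncard := by
  classical
  have : Fintype Ω := Fintype.ofFinite Ω
  set S : Finset (Set Ω) := Finset.univ.filter fun s => ∃ g ρ, P.Lev Ω g ρ ∧ s = P.orb (g • ω) with hS
  set n := {H | H ∈ Cl ∧ H ∈ P.del ω}.ncard with hn
  let r : (F × F × F) → Set Ω → Prop := fun H s => ∃ x ∈ s, H ∈ P.del x
  have hr : ∀ (x : Ω) H, r H (P.orb x) ↔ H ∈ P.del x := fun x H =>
    ⟨fun ⟨y, hy, h⟩ => P.del_orb hy ▸ h, fun h => ⟨x, P.orb_self x, h⟩⟩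
  have h1 := Finset.sum_card_bipartiteAbove_eq_sum_card_bipartiteBelow r (s := Cl) (t := S)
  have h2 : ∀ H ∈ Cl, m ≤ (Finset.bipartiteAbove r S H).card := by
    intro H hH
    obtain ⟨k, ρk, hk, rfl⟩ := hconn H hH
    have : (Finset.univ : Finset (Fin m)).image (fun i => k • P.orb (gs i • ω)) ⊆
        Finset.bipartiteAbove r S (ρk h) := by
      intro s hs
      obtain ⟨i, -, rfl⟩ := Finset.mem_image.mp hs
      obtain ⟨ρ, hl, hρ⟩ := hgs i
      rw [hk.orbit, Finset.bipartiteAbove, Finset.mem_filter, hS, Finset.mem_filter, hr]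
      refine ⟨⟨Finset.mem_univ _, _, _, Lev.trans P hl hk, by rw [mul_smul]⟩, ?_⟩
      rw [← hk.mem, ← hρ, ← hl.mem]
      exact hh
    have hc := Finset.card_le_card this
    rwa [Finset.card_image_of_injective _ (fun i j e => hinj (MulAction.injective k e)), Finset.card_univ,
      Fintype.card_fin] at hc
  have h3 : ∀ s ∈ S, (Finset.bipartiteBelow r Cl s).card = n := by
    intro s hs
    rw [hS, Finset.mem_filter] at hs
    obtain ⟨-, g, ρ, hl, rfl⟩ := hs
    rw [hn, ← Set.ncard_coe_finset, ← Set.ncard_image_of_injective {H | H ∈ Cl ∧ H ∈ P.del ω} ρ.injective]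
    congr 1
    ext H
    simp only [Finset.bipartiteBelow, Finset.coe_filter, hr, Set.mem_ofPred_eq, Set.mem_image]
    constructor
    · rintro ⟨hHC, hH⟩
      refine ⟨ρ.symm H, ⟨?_, ?_⟩, ρ.apply_symm_apply H⟩
      · rwa [← hcl g ρ hl, ρ.apply_symm_apply]
      · rwa [hl.mem, ρ.apply_symm_apply]
    · rintro ⟨H, ⟨hHC, hH⟩, rfl⟩
      exact ⟨(hcl g ρ hl H).mpr hHC, (hl.mem ω H).mp hH⟩
  set U : Finset Ω := Finset.univ.filter fun y => P.orb y ∈ S with hU
  have hdel : ∀ g ρ, P.Lev Ω g ρ → ∀ y, P.orb y = P.orb (g • ω) → Nat.card (P.del y) = Nat.card (P.del ω) := by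
    intro g ρ hl y hy
    rw [P.del_orb (show y ∈ P.orb (g • ω) from hy ▸ P.orb_self y), Lev.card_del P hl]
  refine ⟨(U : Set Ω), fun y hy => ?_, ?_⟩
  · rw [hU, Finset.mem_coe, Finset.mem_filter, hS, Finset.mem_filter] at hy
    obtain ⟨-, -, g, ρ, hl, he⟩ := hy
    exact hdel g ρ hl y he
  · have h4 : U.card = S.card * Nat.card (P.del ω) := by
      rw [Finset.card_eq_sum_card_fiberwise (s := U) (f := P.orb) (t := S) (fun y hy => (Finset.mem_filter.mp hy).2),
        ← smul_eq_mul, ← Finset.sum_const]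
      refine Finset.sum_congr rfl fun s hs => ?_
      rw [hS, Finset.mem_filter] at hs
      obtain ⟨-, g, ρ, hl, rfl⟩ := hs
      rw [← Lev.card_del P hl ω, ← P.card_orb, Set.ncard_eq_toFinset_card']
      congr 1
      ext y
      simp only [hU, Finset.filter_filter, Finset.mem_filter, Finset.mem_univ, true_and, Set.mem_toFinset]
      refine ⟨fun h => h.2 ▸ P.orb_self y, fun h => ?_⟩
      rw [P.orb_eq h]
      exact ⟨by rw [hS, Finset.mem_filter]; exact ⟨Finset.mem_univ _, g, ρ, hl, rfl⟩, rfl⟩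
    rw [Set.ncard_coe_finset, h4]
    have h5 := Finset.sum_le_sum h2
    rw [Finset.sum_const, smul_eq_mul, h1, Finset.sum_congr rfl h3, Finset.sum_const, smul_eq_mul,
      mul_comm Cl.card] at h5
    calc m * Cl.card * Nat.card (P.del ω) ≤ S.card * n * Nat.card (P.del ω) := Nat.mul_le_mul_right _ h5
      _ = _ := by ring

/-! ### Connectedness -/

theorem u_rel (y : F) {H H' : F × F × F} (e : uT D y H = H') : P.Rel Ω H H' := ⟨_, _, P.u_lev y, e⟩

theorem l_rel (y : F) {H H' : F × F × F} (e : lT D y H = H') : P.Rel Ω H H' := ⟨_, _, P.l_lev y, e⟩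

theorem rel_zero {H : F × F × F} (hH : IsReal D H) (h3 : H.2.2 = 0) (h2 : H.2.1 ≠ 0) :
    P.Rel Ω H (0, H.2.1, 0) := by
  obtain ⟨e, he⟩ := D.exists_trace_one
  have h2' : D.σ H.2.1 ≠ 0 := (map_ne_zero D.σ).mpr h2
  refine P.l_rel (e * H.1 / D.σ H.2.1) ?_
  rw [lT_apply, div_mul_cancel₀ _ h2', map_mul, hH.1, h3, map_zero]
  refine Prod.ext ?_ (Prod.ext ?_ rfl)
  · linear_combination -H.1 * he
  · simp

theorem rel_top {H : F × F × F} (hH : IsReal D H) (h3 : H.2.2 ≠ 0) :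
    P.Rel Ω H (Qf D H / H.2.2, 0, H.2.2) := by
  refine P.l_rel (H.2.1 / H.2.2) ?_
  rw [lT_apply, hH.2]
  refine Prod.ext ?_ (Prod.ext ?_ rfl)
  · simp [Qf, hH.2]
    field_simp
    ring
  · simp [mul_div_cancel₀ _ h3]

theorem exists_rel_mid {H : F × F × F} (hH : IsReal D H) (hq : Qf D H ≠ 0) :
    ∃ B : F, B ≠ 0 ∧ P.Rel Ω H (0, B, 0) := by
  by_cases h3 : H.2.2 = 0
  · have h2 : H.2.1 ≠ 0 := fun h2 => hq (by simp [Qf, h2, h3])
    exact ⟨_, h2, P.rel_zero hH h3 h2⟩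
  · set A := Qf D H / H.2.2
    have hA : D.σ A = A := by simp [A, Qf, hH.1, hH.2]; ring
    have hA0 : A ≠ 0 := div_ne_zero hq h3
    obtain ⟨y, hy⟩ := D.exists_norm (b := -H.2.2 / A) (by simp [hA, hH.2])
    have hy0 : y ≠ 0 := by
      intro h; rw [h, zero_mul, eq_comm, div_eq_zero_iff] at hy
      exact hy.elim (neg_ne_zero.mpr h3) hA0
    have e : uT D y (A, 0, H.2.2) = (A, -A * D.σ y, 0) := by
      rw [uT_apply]
      refine Prod.ext rfl (Prod.ext ?_ ?_)
      · simp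
      · simp [hy, mul_div_cancel₀ _ hA0]
    have hB : -A * D.σ y ≠ 0 := mul_ne_zero (neg_ne_zero.mpr hA0) ((map_ne_zero D.σ).mpr hy0)
    exact ⟨_, hB, Rel.trans P (Rel.trans P (P.rel_top hH h3) (P.u_rel y e))
      (P.rel_zero (isReal_mk hA (map_zero _)) rfl hB)⟩

theorem rel_mid {B B' : F} (hB : B ≠ 0) (hB' : B' ≠ 0) (hn : B * D.σ B = B' * D.σ B') :
    P.Rel Ω (0, B, 0) (0, B', 0) := by
  obtain ⟨e, he⟩ := D.exists_trace_one
  have key : ∀ B : F, B ≠ 0 → P.Rel Ω (0, B, 0) (-(B * D.σ B), 0, 1) := by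
    intro B hB
    have hr : IsReal D (0, B, (1 : F)) := isReal_mk (map_zero _) (map_one _)
    have h := P.rel_top (Ω := Ω) hr one_ne_zero
    refine Rel.trans P (P.u_rel (-e / B) ?_) (by simpa [Qf] using h)
    rw [uT_apply]
    refine Prod.ext rfl (Prod.ext ?_ ?_)
    · simp
    · simp only [div_mul_cancel₀ _ hB, map_neg]
      linear_combination he
  exact Rel.trans P (key B hB) (Rel.symm P (hn ▸ key B' hB'))

theorem rel_scale {B r : F} (hr : D.σ r = r) (hr0 : r ≠ 0) : P.Rel Ω (0, B, 0) (0, r * B, 0) := by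
  obtain ⟨g, hg⟩ := P.d_lev (Ω := Ω) (c1 := r⁻¹) (c2 := 1) (by rw [map_inv₀, hr]) (map_one _)
    (inv_ne_zero hr0) one_ne_zero
  refine ⟨g, _, hg, ?_⟩
  simp [dT, mul_comm]

theorem ns_conn {B : F} (hB : B ≠ 0) {H : F × F × F} (hH : H ∈ nsCl D (Qf D (0, B, 0))) :
    P.Rel Ω (0, B, 0) H := by
  obtain ⟨hr, r, hrf, hr0, hq⟩ := mem_nsCl.mp hH
  have hne : Qf D H ≠ 0 := by
    rw [hq]
    exact mul_ne_zero (pow_ne_zero 2 hr0) (by simp [Qf, hB])
  obtain ⟨B', hB', g, ρ, hl, e⟩ := P.exists_rel_mid (Ω := Ω) hr hne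
  obtain ⟨t, ht, ht0, hqt⟩ := hl.quad
  have hq' := hqt H hr
  rw [e, hq] at hq'
  have htr : D.σ (t * r) = t * r := by rw [map_mul, ht, hrf]
  have hn : t * r * B * D.σ (t * r * B) = B' * D.σ B' := by
    simp only [Qf] at hq'
    rw [map_mul, htr]
    linear_combination hq'
  exact Rel.trans P (Rel.trans P (P.rel_scale htr (mul_ne_zero ht0 hr0))
    (P.rel_mid (mul_ne_zero (mul_ne_zero ht0 hr0) hB) hB' hn)) (Rel.symm P ⟨g, ρ, hl, e⟩)

theorem sg_conn {h H : F × F × F} (hh : h ∈ sgCl D) (hH : H ∈ sgCl D) : P.Rel Ω h H := by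
  suffices key : ∀ H ∈ sgCl D, P.Rel Ω (1, 0, 0) H from Rel.trans P (Rel.symm P (key h hh)) (key H hH)
  clear hh hH h H
  have hC : ∀ H ∈ sgCl D, H.2.2 ≠ 0 → P.Rel Ω (1, 0, 0) H := by
    intro H hH h3
    obtain ⟨hr, h0, hq⟩ := mem_sgCl.mp hH
    obtain ⟨y, hy⟩ := D.exists_norm hr.2
    have h1 : P.Rel Ω (1, 0, 0) (1, -D.σ y, H.2.2) := P.u_rel y (by rw [uT_apply]; simp [hy])
    have h2 := P.rel_top (Ω := Ω) (isReal_mk (b := -D.σ y) (map_one _) hr.2) h3
    have h4 := P.rel_top (Ω := Ω) hr h3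
    have q0 : Qf D ((1 : F), -D.σ y, H.2.2) = 0 := by simp [Qf]; linear_combination -hy
    rw [q0] at h2
    rw [hq] at h4
    exact Rel.trans P (Rel.trans P h1 h2) (Rel.symm P h4)
  intro H hH
  by_cases h3 : H.2.2 = 0
  · obtain ⟨hr, h0, hq⟩ := mem_sgCl.mp hH
    have h2 : H.2.1 = 0 := by simpa [Qf, h3] using hq
    have h1 : H.1 ≠ 0 := fun h1 => h0 (Prod.ext h1 (Prod.ext h2 h3))
    have hmem : uT D 1 H ∈ sgCl D := (P.sgCl_closed (Ω := Ω) _ _ (P.u_lev 1) H).mpr hH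
    refine Rel.trans P (hC _ hmem ?_) (Rel.symm P (P.u_rel 1 rfl))
    simp [uT_apply, h2, h3, h1]
  · exact hC H hH h3

end Fr

/-! ### Sizes of the classes -/

theorem card_fixed_units : Nat.card {a : F // D.σ a = a ∧ a ≠ 0} = D.q - 1 := by
  classical
  have h : Nat.card {a : F // D.σ a = a} = Nat.card {a : F // D.σ a = a ∧ a ≠ 0} + 1 := by
    rw [Nat.card_eq_fintype_card, Nat.card_eq_fintype_card, Fintype.card_subtype, Fintype.card_subtype]
    rw [← Finset.card_insert_of_notMem (s := Finset.univ.filter fun a : F => D.σ a = a ∧ a ≠ 0) (a := 0) (by simp)]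
    congr 1
    ext a
    by_cases ha : a = 0 <;> simp [ha]
  rw [D.card_fixed] at h
  omega

theorem card_norm_one : Nat.card {γ : F // γ * D.σ γ = 1} = D.q + 1 := by
  classical
  have hq := D.two_le
  have hu : Nat.card Fˣ = (D.q + 1) * (D.q - 1) := by
    rw [Nat.card_units, Nat.card_eq_fintype_card, D.card_F, ← Nat.sq_sub_sq, one_pow]
  have hker : Nat.card (powMonoidHom (D.q + 1) : Fˣ →* Fˣ).ker = D.q + 1 := by
    rw [IsCyclic.card_powMonoidHom_ker, hu, Nat.gcd_eq_right (Dvd.intro _ rfl)]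
  have hne : ∀ γ : {γ : F // γ * D.σ γ = 1}, γ.1 ≠ 0 := fun γ h => by
    have := γ.2; rw [h, zero_mul] at this; exact zero_ne_one this
  rw [← hker]
  refine Nat.card_congr ⟨fun γ => ⟨Units.mk0 γ.1 (hne γ), ?_⟩, fun g => ⟨(g.1 : F), ?_⟩,
    fun γ => rfl, fun g => Subtype.ext (Units.ext rfl)⟩
  · refine MonoidHom.mem_ker.mpr (Units.ext ?_)
    simp only [powMonoidHom_apply, Units.val_pow_eq_pow_val, Units.val_mk0, Units.val_one]
    rw [pow_succ', ← D.σ_apply]; exact γ.2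
  · rw [D.σ_apply, ← pow_succ']
    exact congrArg Units.val (MonoidHom.mem_ker.mp g.2)

open Classical in
/-- squares of non-zero fixed elements -/
noncomputable def sqVals (D : HermData F V) : Finset F :=
  (Finset.univ.filter fun a : F => D.σ a = a ∧ a ≠ 0).image (· ^ 2)

theorem card_sqVals : D.q - 1 ≤ 2 * (sqVals D).card ∧ ((2 : F) = 0 → D.q - 1 ≤ (sqVals D).card) ∧
    1 ≤ (sqVals D).card := by
  classical
  have hs : (Finset.univ.filter fun a : F => D.σ a = a ∧ a ≠ 0).card = D.q - 1 := by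
    rw [← Fintype.card_subtype, ← Nat.card_eq_fintype_card, card_fixed_units]
  refine ⟨?_, ?_, ?_⟩
  · rw [← hs]
    refine (Finset.card_le_mul_card_image _ 2 fun b _ => ?_).trans_eq rfl
    rcases (Finset.univ.filter fun a : F => (D.σ a = a ∧ a ≠ 0) ∧ a ^ 2 = b).eq_empty_or_nonempty with h | ⟨a, ha⟩
    · rw [Finset.filter_filter, h]; simp
    · rw [Finset.filter_filter]
      refine (Finset.card_le_card (t := {a, -a}) fun x hx => ?_).trans Finset.card_le_two
      simp only [Finset.mem_filter, Finset.mem_univ, true_and] at hx ha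
      simp only [Finset.mem_insert, Finset.mem_singleton]
      exact sq_eq_sq_iff_eq_or_eq_neg.mp (hx.2.trans ha.2.symm)
  · intro h2
    rw [sqVals, Finset.card_image_of_injective _ fun a b h => ?_, hs]
    have h' : a ^ 2 = b ^ 2 := h
    have e : (a - b) * (a - b) = 0 := by linear_combination h' + (b ^ 2 - a * b) * h2
    exact sub_eq_zero.mp (mul_self_eq_zero.mp e)
  · refine Finset.card_pos.mpr ⟨1, Finset.mem_image.mpr ⟨1, ?_, one_pow 2⟩⟩
    simp

theorem card_nsCl {B : F} (hB : B ≠ 0) :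
    (sqVals D).card * (D.q ^ 3 + D.q) ≤ (nsCl D (Qf D (0, B, 0))).card := by
  classical
  have hr : ∀ v : sqVals D, ∃ r : F, D.σ r = r ∧ r ≠ 0 ∧ r ^ 2 = v.1 := by
    intro v
    obtain ⟨r, hr, e⟩ := Finset.mem_image.mp v.2
    exact ⟨r, (Finset.mem_filter.mp hr).2.1, (Finset.mem_filter.mp hr).2.2, e⟩
  choose r hrf hr0 hrv using hr
  let T := ({a : F // D.σ a = a ∧ a ≠ 0} × F) ⊕ ({a : F // D.σ a = a} × {γ : F // γ * D.σ γ = 1})
  let f : sqVals D × T → F × F × F := fun vt => Sum.elim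
    (fun t => (((vt.1 : F) * Qf D (0, B, 0) + t.2 * D.σ t.2) / (t.1 : F), t.2, (t.1 : F)))
    (fun t => ((t.1 : F), r vt.1 * B * (t.2 : F), 0)) vt.2
  have hv : ∀ v : sqVals D, D.σ (v : F) = v := fun v => by rw [← hrv v, map_pow, hrf]
  have hQ : ∀ vt, IsReal D (f vt) ∧ Qf D (f vt) = (vt.1 : F) * Qf D (0, B, 0) := by
    rintro ⟨v, ⟨⟨a, ha, ha0⟩, b⟩ | ⟨⟨a, ha⟩, γ, hγ⟩⟩
    · refine ⟨isReal_mk (by simp [Qf, hv, ha]; ring) ha, ?_⟩
      simp [f, Qf]
      field_simp
      ring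
    · refine ⟨isReal_mk ha (map_zero _), ?_⟩
      simp [f, Qf, hrf, ← hrv]
      linear_combination (r v ^ 2 * (B * D.σ B)) * hγ
  have hinj : Function.Injective f := by
    intro x y h
    have hne : Qf D (0, B, 0) ≠ 0 := by simp [Qf, hB]
    have e1 : x.1 = y.1 := Subtype.ext (mul_right_cancel₀ hne ((hQ x).2.symm.trans (h ▸ (hQ y).2)))
    obtain ⟨v, ⟨⟨a, ha, ha0⟩, b⟩ | ⟨⟨a, ha⟩, γ, hγ⟩⟩ := x <;>
      obtain ⟨v', ⟨⟨a', ha', ha0'⟩, b'⟩ | ⟨⟨a', ha'⟩, γ', hγ'⟩⟩ := y <;>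
      obtain rfl : v = v' := e1 <;> simp [f] at h
    · obtain ⟨-, rfl, rfl⟩ := h; rfl
    · exact absurd h.2.2 ha0
    · exact absurd h.2.2.symm ha0'
    · obtain ⟨rfl, h2⟩ := h
      obtain rfl : γ = γ' := (h2.resolve_right (by simp [hr0, hB]))
      rfl
  have hc := Finset.card_le_card (s := Finset.univ.image f) (t := nsCl D (Qf D (0, B, 0))) (by
    intro H hH
    obtain ⟨vt, -, rfl⟩ := Finset.mem_image.mp hH
    exact mem_nsCl.mpr ⟨(hQ vt).1, r vt.1, hrf _, hr0 _, by rw [hrv, (hQ vt).2]⟩)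
  rw [Finset.card_image_of_injective _ hinj, Finset.card_univ, ← Nat.card_eq_fintype_card, Nat.card_prod,
    Nat.card_sum, Nat.card_prod, Nat.card_prod, card_fixed_units, D.card_fixed, card_norm_one,
    Nat.card_eq_fintype_card, Nat.card_eq_fintype_card (α := F), D.card_F, Fintype.card_coe] at hc
  refine le_trans (le_of_eq ?_) hc
  congr 1
  obtain ⟨j, hj⟩ : ∃ j, D.q = j + 1 := ⟨D.q - 1, by have := D.two_le; omega⟩
  rw [hj, Nat.add_sub_cancel]; ring

theorem card_sgCl : (D.q - 1) * (D.q ^ 2 + 1) ≤ (sgCl D).card := by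
  classical
  let f : ({a : F // D.σ a = a ∧ a ≠ 0} × F) ⊕ {a : F // D.σ a = a ∧ a ≠ 0} → F × F × F :=
    Sum.elim (fun t => (t.2 * D.σ t.2 / (t.1 : F), t.2, (t.1 : F))) (fun a => ((a : F), 0, 0))
  have hinj : Function.Injective f := by
    rintro (⟨⟨a, ha, ha0⟩, b⟩ | ⟨a, ha, ha0⟩) (⟨⟨a', ha', ha0'⟩, b'⟩ | ⟨a', ha', ha0'⟩) h <;>
      simp [f] at h
    · obtain ⟨-, rfl, rfl⟩ := h; rfl
    · exact absurd h.2.2 ha0
    · exact absurd h.2.2.symm ha0'
    · subst h; rfl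
  have hc := Finset.card_le_card (s := Finset.univ.image f) (t := sgCl D) (by
    intro H hH
    obtain ⟨t, -, rfl⟩ := Finset.mem_image.mp hH
    rw [mem_sgCl]
    rcases t with ⟨⟨a, ha, ha0⟩, b⟩ | ⟨a, ha, ha0⟩
    · refine ⟨isReal_mk (by simp [ha, mul_comm]) ha, by simp [f, ha0], ?_⟩
      simp [f, Qf, div_mul_cancel₀ _ ha0]
    · exact ⟨isReal_mk ha (map_zero _), by simp [f, ha0], by simp [f, Qf]⟩)
  rw [Finset.card_image_of_injective _ hinj, Finset.card_univ, ← Nat.card_eq_fintype_card, Nat.card_sum,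
    Nat.card_prod, card_fixed_units, Nat.card_eq_fintype_card, D.card_F] at hc
  exact le_trans (le_of_eq (by ring)) hc

/-! ### Members of a class in a subgroup -/

theorem inter_succ_le (S : AddSubgroup (F × F × F)) {Cl : Finset (F × F × F)} (h0 : (0 : F × F × F) ∉ Cl) :
    {H | H ∈ Cl ∧ H ∈ S}.ncard + 1 ≤ Nat.card S := by
  rw [← Set.ncard_insert_of_notMem (a := (0 : F × F × F)) (s := {H | H ∈ Cl ∧ H ∈ S}) (fun h => h0 h.1) (Set.toFinite _)]
  exact Set.ncard_le_ncard (Set.insert_subset S.zero_mem fun H hH => hH.2) (Set.toFinite _)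

theorem zero_notMem_nsCl {δ : F} (hδ : δ ≠ 0) : (0 : F × F × F) ∉ nsCl D δ := by
  intro h
  obtain ⟨-, r, -, hr0, e⟩ := mem_nsCl.mp h
  exact mul_ne_zero (pow_ne_zero 2 hr0) hδ (e.symm.trans (by simp [Qf]))

theorem inter_three (hq : D.q = 3) (S : AddSubgroup (F × F × F)) (_hS : S ≤ realT D) {h : F × F × F}
    (hh : h ∈ S) (hne : Qf D h ≠ 0) :
    3 * {H | H ∈ nsCl D (Qf D h) ∧ H ∈ S}.ncard ≤ 2 * Nat.card S := by
  classical
  have hsq : ∀ r : F, D.σ r = r → r ≠ 0 → r ^ 2 = 1 := by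
    intro r hr hr0
    apply mul_left_cancel₀ hr0
    rw [D.σ_apply, hq] at hr
    linear_combination hr
  have h2 : (2 : F) ≠ 0 := by
    intro h2
    have h4 : Fintype.card F = 9 := by rw [D.card_F, hq]; rfl
    obtain ⟨p, hc⟩ := CharP.exists F
    obtain ⟨n, hp, hn⟩ := FiniteField.card F p
    have := (CharP.cast_eq_zero_iff F p 2).mp (by exact_mod_cast h2)
    have hp2 : p = 2 := (Nat.prime_dvd_prime_iff_eq hp Nat.prime_two).mp this
    rw [hp2, h4] at hn
    have he : Even (2 ^ (n : ℕ)) := Nat.even_pow.mpr ⟨even_two, n.pos.ne'⟩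
    rw [← hn] at he
    exact absurd he (by decide)
  set T : Finset (F × F × F) := Finset.univ.filter (· ∈ S)
  have hT : T.card = Nat.card S := by
    rw [Nat.card_eq_fintype_card, Fintype.card_subtype]
  let sh : (F × F × F) → Finset (F × F × F) := fun a => T.filter fun x => x + a ∈ nsCl D (Qf D h)
  have hsh : ∀ a ∈ S, (sh a).card = (sh 0).card := by
    intro a ha
    refine Finset.card_nbij (· + a) (fun x hx => ?_) (fun x _ y _ e => add_right_cancel e) (fun x hx => ?_)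
    · simp only [sh, T, Finset.mem_coe, Finset.mem_filter, Finset.mem_univ, true_and, add_zero] at hx ⊢
      exact ⟨S.add_mem hx.1 ha, hx.2⟩
    · simp only [sh, T, Finset.mem_coe, Finset.mem_filter, Finset.mem_univ, true_and, add_zero] at hx
      refine ⟨x - a, ?_, sub_add_cancel x a⟩
      simp only [sh, T, Finset.mem_coe, Finset.mem_filter, Finset.mem_univ, true_and, sub_add_cancel]
      exact ⟨S.sub_mem hx.1 ha, hx.2⟩
  have h0 : (sh 0).card = {H | H ∈ nsCl D (Qf D h) ∧ H ∈ S}.ncard := by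
    rw [← Set.ncard_coe_finset]
    congr 1
    ext x
    simp [sh, T, and_comm]
  have hdis : Disjoint (sh 0 ∩ sh h) (sh (-h)) := by
    rw [Finset.disjoint_left]
    intro x hx hx'
    simp only [sh, Finset.mem_inter, Finset.mem_filter, mem_nsCl, add_zero] at hx hx'
    obtain ⟨⟨-, hr1, r1, hf1, hn1, e1⟩, -, hr2, r2, hf2, hn2, e2⟩ := hx
    obtain ⟨-, hr3, r3, hf3, hn3, e3⟩ := hx'
    rw [hsq _ hf1 hn1, one_mul] at e1
    rw [hsq _ hf2 hn2, one_mul] at e2
    rw [hsq _ hf3 hn3, one_mul] at e3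
    have key : Qf D (x + h) + Qf D (x + -h) = 2 * Qf D x + 2 * Qf D h := by simp [Qf]; ring
    rw [e1, e2, e3] at key
    exact mul_ne_zero h2 hne (by linear_combination -key)
  have c1 := Finset.card_union_add_card_inter (sh 0) (sh h)
  have c2 := Finset.card_union_of_disjoint hdis
  have c3 : (sh 0 ∪ sh h).card ≤ T.card :=
    Finset.card_le_card (Finset.union_subset (Finset.filter_subset _ _) (Finset.filter_subset _ _))
  have c4 : (sh 0 ∩ sh h ∪ sh (-h)).card ≤ T.card :=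
    Finset.card_le_card (Finset.union_subset (Finset.inter_subset_left.trans (Finset.filter_subset _ _))
      (Finset.filter_subset _ _))
  rw [hsh h hh] at c1
  rw [hsh (-h) (S.neg_mem hh)] at c2
  omega

theorem two_eq_zero (hq : D.q = 2) : (2 : F) = 0 := by
  have h := congrArg (fun n : ℕ => (n : F)) D.card_F
  simp only [FiniteField.cast_card_eq_zero, hq] at h
  have e : (2 : F) * 2 = 0 := by rw [h]; norm_num
  exact mul_self_eq_zero.mp e

theorem fixed_two (hq : D.q = 2) {a : F} (ha : D.σ a = a) : a = 0 ∨ a = 1 := by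
  rw [D.σ_apply, hq] at ha
  rcases eq_or_ne a 0 with h | h
  · exact Or.inl h
  · exact Or.inr (mul_left_cancel₀ h (by linear_combination ha))

theorem inter_two (hq : D.q = 2) (S : AddSubgroup (F × F × F)) (hS : S ≤ realT D) {δ : F} (hδ : δ ≠ 0) :
    4 * {H | H ∈ nsCl D δ ∧ H ∈ S}.ncard ≤ 3 * Nat.card S := by
  classical
  have h2 := two_eq_zero (D := D) hq
  have h16 : Nat.card (realT D) = 16 := by rw [card_realT, hq]; rfl
  have hdvd : Nat.card S ∣ 16 := h16 ▸ AddSubgroup.card_dvd_of_le hS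
  obtain ⟨w, hw⟩ := D.exists_trace_one
  have hw2 : D.σ w = w ^ 2 := by rw [D.σ_apply, hq]
  have hN : w * D.σ w = 1 := by
    rw [hw2]; linear_combination (w - 1) * (hw2 ▸ hw : w + w ^ 2 = 1) + (w - 1) * h2
  have hsing : ∀ H : F × F × F, Qf D H = 0 → H ∉ nsCl D δ := by
    intro H h h'
    obtain ⟨-, r, -, hr0, e⟩ := mem_nsCl.mp h'
    exact mul_ne_zero (pow_ne_zero 2 hr0) hδ (e.symm.trans h)
  have hle : {H | H ∈ nsCl D δ ∧ H ∈ S}.ncard + 1 ≤ Nat.card S := inter_succ_le S (zero_notMem_nsCl hδ)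
  have hext : ∀ T : Finset (F × F × F), (∀ x ∈ T, x ∈ S ∧ Qf D x = 0) →
      {H | H ∈ nsCl D δ ∧ H ∈ S}.ncard + T.card ≤ Nat.card S := by
    intro T hT
    rw [← Set.ncard_coe_finset T, ← Set.ncard_union_eq (Set.disjoint_left.mpr fun x hx hx' =>
      hsing x (hT x hx').2 hx.1) (Set.toFinite _) (Set.toFinite _)]
    exact Set.ncard_le_ncard (Set.union_subset (fun H hH => hH.2) fun x hx => (hT x hx).1) (Set.toFinite _)
  obtain ⟨j, hj, hj'⟩ := (Nat.dvd_prime_pow Nat.prime_two (m := 4)).mp (by norm_num; exact hdvd)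
  rcases (by omega : j ≤ 2 ∨ j = 3 ∨ j = 4) with hj2 | rfl | rfl
  · have : 2 ^ j ≤ 2 ^ 2 := Nat.pow_le_pow_right (by norm_num) hj2
    omega
  · -- a subgroup of index two contains a non-zero singular triple
    have hidx : (S.addSubgroupOf (realT D)).index = 2 := by
      have := AddSubgroup.card_mul_index (S.addSubgroupOf (realT D))
      rw [Nat.card_congr (AddSubgroup.addSubgroupOfEquivOfLe hS).toEquiv, h16, hj'] at this
      norm_num at this
      omega
    have hadd : ∀ x y, IsReal D x → IsReal D y → x ∉ S → y ∉ S → x + y ∈ S := fun x y hx hy h1 h1' =>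
      (AddSubgroup.add_mem_iff_of_index_two hidx (a := ⟨x, hx⟩) (b := ⟨y, hy⟩)).mpr (iff_of_false h1 h1')
    let v1 : F × F × F := (1, 0, 0)
    let v2 : F × F × F := (0, 0, 1)
    let v3 : F × F × F := (1, 1, 1)
    let v4 : F × F × F := (1, w, 1)
    let v5 : F × F × F := (1, D.σ w, 1)
    have hr : ∀ x ∈ ([v1, v2, v3, v4, v5] : List (F × F × F)), IsReal D x ∧ Qf D x = 0 ∧ x ≠ 0 := by
      intro x hx
      simp only [List.mem_cons, List.not_mem_nil, or_false] at hx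
      rcases hx with rfl | rfl | rfl | rfl | rfl <;>
        refine ⟨⟨by simp [v1, v2, v3, v4, v5], by simp [v1, v2, v3, v4, v5]⟩, ?_, by simp [v1, v2, v3, v4, v5]⟩ <;>
        simp [Qf, v1, v2, v3, v4, v5, hN, mul_comm (D.σ w) w]
    obtain ⟨x, hx, hxS⟩ : ∃ x ∈ ([v1, v2, v3, v4, v5] : List (F × F × F)), x ∈ S := by
      by_contra hcon
      push Not at hcon
      have hR : ∀ {x}, x ∈ ([v1, v2, v3, v4, v5] : List (F × F × F)) → IsReal D x := fun hx => (hr _ hx).1
      have a1 := hadd v1 v2 (hR (by simp)) (hR (by simp)) (hcon _ (by simp)) (hcon _ (by simp))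
      have a2 := hadd v3 v4 (hR (by simp)) (hR (by simp)) (hcon _ (by simp)) (hcon _ (by simp))
      refine hcon v5 (by simp) ?_
      have e : v5 = v1 + v2 + (v3 + v4) := by
        refine Prod.ext ?_ (Prod.ext ?_ ?_) <;> simp [v1, v2, v3, v4, v5]
        · linear_combination h2
        · linear_combination hw - w * h2
        · linear_combination h2
      rw [e]; exact S.add_mem a1 a2
    have := hext {0, x} (by
      intro y hy
      simp only [Finset.mem_insert, Finset.mem_singleton] at hy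
      rcases hy with rfl | rfl
      · exact ⟨S.zero_mem, by simp [Qf]⟩
      · exact ⟨hxS, (hr _ hx).2.1⟩)
    rw [Finset.card_pair (Ne.symm (hr _ hx).2.2)] at this
    omega
  · have hall : ∀ x, IsReal D x → x ∈ S := by
      have e : S = realT D := SetLike.coe_injective (Set.eq_of_subset_of_ncard_le hS
        (by rw [← Nat.card_coe_set_eq, ← Nat.card_coe_set_eq]; show Nat.card (realT D) ≤ Nat.card S; omega)
        (Set.toFinite _))
      exact fun x hx => e ▸ hx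
    have := hext {0, ((1 : F), (0 : F), (0 : F)), (0, 0, 1), (1, 1, 1)} (by
      intro y hy
      simp only [Finset.mem_insert, Finset.mem_singleton] at hy
      rcases hy with rfl | rfl | rfl | rfl <;>
        exact ⟨hall _ ⟨by simp, by simp⟩, by simp [Qf]⟩)
    have h4 : ({0, ((1 : F), (0 : F), (0 : F)), (0, 0, 1), (1, 1, 1)} : Finset (F × F × F)).card = 4 := by
      simp [Finset.card_insert_of_notMem, Prod.ext_iff]
    omega

end CfsgLib.KnownSimple.UFour
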