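import Cfsg.Agent.Lib.KnownSimple.UnitaryGen

set_option autoImplicit false
set_option linter.unusedSectionVars false
set_option linter.unusedSimpArgs false

/-!
Frames of a four-dimensional Hermitian space, the unipotent group of a totally isotropic line and the
elements normalising it.
-/

namespace CfsgLib.KnownSimple.UFour

open CfsgLib.KnownSimple.Unitary

attribute [local simp] HermData.neg_left HermData.neg_right

variable {F V : Type*} [Field F] [Fintype F] [AddCommGroup V] [Module F V] {D : HermData F V}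

/-- a fixed non-zero skew element -/
noncomputable def sk (D : HermData F V) : F := Classical.choose D.exists_skew_ne

theorem sk_skew : D.σ (sk D) = -sk D := (Classical.choose_spec D.exists_skew_ne).1

theorem sk_ne : sk D ≠ 0 := (Classical.choose_spec D.exists_skew_ne).2

theorem div_sk_skew {a : F} (ha : D.σ a = a) : D.σ (a / sk D) = -(a / sk D) := by
  rw [map_div₀, ha, sk_skew, div_neg]

/-- two orthogonal hyperbolic pairs in a space of dimension four -/
structure Fr (D : HermData F V) where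
  e1 : V
  e2 : V
  f1 : V
  f2 : V
  e11 : D.h e1 e1 = 0
  e22 : D.h e2 e2 = 0
  e12 : D.h e1 e2 = 0
  f11 : D.h f1 f1 = 0
  f22 : D.h f2 f2 = 0
  f12 : D.h f1 f2 = 0
  ef1 : D.h e1 f1 = 1
  ef2 : D.h e2 f2 = 1
  ef12 : D.h e1 f2 = 0
  ef21 : D.h e2 f1 = 0
  dim : Module.finrank F V = 4

namespace Fr

attribute [simp] e11 e22 e12 f11 f22 f12 ef1 ef2 ef12 ef21

variable (P : Fr D)

@[simp] theorem e21 : D.h P.e2 P.e1 = 0 := D.eq_zero_comm P.e12
@[simp] theorem f21 : D.h P.f2 P.f1 = 0 := D.eq_zero_comm P.f12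
@[simp] theorem fe12 : D.h P.f1 P.e2 = 0 := D.eq_zero_comm P.ef21
@[simp] theorem fe21 : D.h P.f2 P.e1 = 0 := D.eq_zero_comm P.ef12
@[simp] theorem fe1 : D.h P.f1 P.e1 = 1 := by rw [← D.symm, P.ef1, map_one]
@[simp] theorem fe2 : D.h P.f2 P.e2 = 1 := by rw [← D.symm, P.ef2, map_one]

/-- exchange the two pairs -/
def swap : Fr D where
  e1 := P.e2
  e2 := P.e1
  f1 := P.f2
  f2 := P.f1
  e11 := P.e22
  e22 := P.e11
  e12 := P.e21
  f11 := P.f22
  f22 := P.f11
  f12 := P.f21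
  ef1 := P.ef2
  ef2 := P.ef1
  ef12 := P.ef21
  ef21 := P.ef12
  dim := P.dim

/-- exchange the members of the second pair -/
def flip : Fr D where
  e1 := P.e1
  e2 := P.f2
  f1 := P.f1
  f2 := P.e2
  e11 := P.e11
  e22 := P.f22
  e12 := P.ef12
  f11 := P.f11
  f22 := P.e22
  f12 := P.fe12
  ef1 := P.ef1
  ef2 := P.fe2
  ef12 := P.e12
  ef21 := P.f21
  dim := P.dim

/-- exchange the members of both pairs -/
def opp : Fr D where
  e1 := P.f1
  e2 := P.f2
  f1 := P.e1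
  f2 := P.e2
  e11 := P.f11
  e22 := P.f22
  e12 := P.f12
  f11 := P.e11
  f22 := P.e22
  f12 := P.e12
  ef1 := P.fe1
  ef2 := P.fe2
  ef12 := P.fe12
  ef21 := P.fe21
  dim := P.dim

@[simp] theorem swap_e1 : P.swap.e1 = P.e2 := rfl
@[simp] theorem swap_e2 : P.swap.e2 = P.e1 := rfl
@[simp] theorem swap_f1 : P.swap.f1 = P.f2 := rfl
@[simp] theorem swap_f2 : P.swap.f2 = P.f1 := rfl
@[simp] theorem flip_e1 : P.flip.e1 = P.e1 := rfl
@[simp] theorem flip_e2 : P.flip.e2 = P.f2 := rfl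
@[simp] theorem flip_f1 : P.flip.f1 = P.f1 := rfl
@[simp] theorem flip_f2 : P.flip.f2 = P.e2 := rfl
@[simp] theorem opp_e1 : P.opp.e1 = P.f1 := rfl
@[simp] theorem opp_e2 : P.opp.e2 = P.f2 := rfl
@[simp] theorem opp_f1 : P.opp.f1 = P.e1 := rfl
@[simp] theorem opp_f2 : P.opp.f2 = P.e2 := rfl

theorem e1_ne : P.e1 ≠ 0 := fun h => by simpa [h] using P.ef1
theorem e2_ne : P.e2 ≠ 0 := fun h => by simpa [h] using P.ef2

theorem pair1 : D.Pair (⊤ : Submodule F V) P.e1 P.f1 := ⟨trivial, trivial, P.e11, P.f11, P.ef1⟩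
theorem pair2 : D.Pair (⊤ : Submodule F V) P.e2 P.f2 := ⟨trivial, trivial, P.e22, P.f22, P.ef2⟩

variable [FiniteDimensional F V]

theorem eq_zero {x : V} (h1 : D.h x P.e1 = 0) (h2 : D.h x P.e2 = 0) (h3 : D.h x P.f1 = 0)
    (h4 : D.h x P.f2 = 0) : x = 0 := by
  have hp : D.Pair (D.cutPair ⊤ P.e1 P.f1) P.e2 P.f2 :=
    ⟨D.mem_cutPair.mpr ⟨trivial, P.e21, P.ef21⟩, D.mem_cutPair.mpr ⟨trivial, P.fe21, P.f21⟩, P.e22, P.f22,
      P.ef2⟩
  have d1 := D.finrank_cutPair P.pair1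
  rw [finrank_top, P.dim] at d1
  have d2 := D.finrank_cutPair hp
  have hb : D.cutPair (D.cutPair ⊤ P.e1 P.f1) P.e2 P.f2 = ⊥ := Submodule.finrank_eq_zero.mp (by omega)
  have hx : x ∈ D.cutPair (D.cutPair ⊤ P.e1 P.f1) P.e2 P.f2 :=
    D.mem_cutPair.mpr ⟨D.mem_cutPair.mpr ⟨trivial, h1, h3⟩, h2, h4⟩
  rwa [hb, Submodule.mem_bot] at hx

theorem decomp (x : V) :
    x = D.h x P.f1 • P.e1 + D.h x P.f2 • P.e2 + D.h x P.e1 • P.f1 + D.h x P.e2 • P.f2 := by
  refine sub_eq_zero.mp (P.eq_zero ?_ ?_ ?_ ?_) <;> simp [D.sub_left, D.add_left, D.smul_left]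

theorem ext_equiv {g g' : V ≃ₗ[F] V} (h1 : g P.e1 = g' P.e1) (h2 : g P.e2 = g' P.e2)
    (h3 : g P.f1 = g' P.f1) (h4 : g P.f2 = g' P.f2) : g = g' := by
  refine LinearEquiv.ext fun x => ?_
  rw [P.decomp x]
  simp only [map_add, map_smul, h1, h2, h3, h4]

end Fr

/-- triples with first and last entry in the fixed field -/
def IsReal (D : HermData F V) (M : F × F × F) : Prop := D.σ M.1 = M.1 ∧ D.σ M.2.2 = M.2.2

theorem isReal_mk {a b c : F} (ha : D.σ a = a) (hc : D.σ c = c) : IsReal D (a, b, c) := ⟨ha, hc⟩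

theorem IsReal.add {M N : F × F × F} (hM : IsReal D M) (hN : IsReal D N) : IsReal D (M + N) :=
  ⟨by simp [hM.1, hN.1], by simp [hM.2, hN.2]⟩

theorem IsReal.neg {M : F × F × F} (hM : IsReal D M) : IsReal D (-M) := ⟨by simp [hM.1], by simp [hM.2]⟩

theorem isReal_zero : IsReal D (0 : F × F × F) := ⟨map_zero _, map_zero _⟩

theorem IsReal.smul {M : F × F × F} (hM : IsReal D M) {r : F} (hr : D.σ r = r) : IsReal D (r • M) :=
  ⟨by simp [hM.1, hr], by simp [hM.2, hr]⟩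

variable [FiniteDimensional F V]

/-- every totally isotropic line lies in a frame -/
theorem exists_fr (dim : Module.finrank F V = 4) {v w : V} (hv : D.h v v = 0) (hw : D.h w w = 0)
    (hvw : D.h v w = 0) (hv0 : v ≠ 0) (hind : ∀ c : F, w ≠ c • v) : ∃ P : Fr D, P.e1 = v ∧ P.e2 = w := by
  have hind' : ∀ c : F, v ≠ c • w := by
    intro c h
    rcases eq_or_ne c 0 with rfl | hc
    · exact hv0 (by rwa [zero_smul] at h)
    · exact hind c⁻¹ (by rw [h, inv_smul_smul₀ hc])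
  obtain ⟨y, -, hyw, hyv⟩ := D.exists_pairing_orth D.nondeg_top (Submodule.mem_top (x := w))
    (Submodule.mem_top (x := v)) hind'
  obtain ⟨d, hd⟩ := D.exists_trace (b := -D.h y y) (by rw [map_neg, D.self_fixed])
  have hvy : D.h v y = 1 := by rw [← D.symm, hyv, map_one]
  set f1 := y + d • v with hf1
  have hf11 : D.h f1 f1 = 0 := by
    rw [hf1]
    simp only [D.add_left, D.add_right, D.smul_left, D.smul_right, hyv, hvy, hv]
    linear_combination hd
  have hf1w : D.h f1 w = 0 := by rw [hf1, D.add_left, D.smul_left, hyw, hvw]; ring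
  have hvf1 : D.h v f1 = 1 := by rw [hf1, D.add_right, D.smul_right, hvy, hv]; ring
  have hP : D.Pair (⊤ : Submodule F V) v f1 := ⟨trivial, trivial, hv, hf11, hvf1⟩
  have hwm : w ∈ D.cutPair ⊤ v f1 := D.mem_cutPair.mpr ⟨trivial, D.eq_zero_comm hvw, D.eq_zero_comm hf1w⟩
  have hw0 : w ≠ 0 := fun h => hind 0 (by rw [h, zero_smul])
  obtain ⟨f2, hP2⟩ := D.exists_partner (D.nondeg_cutPair D.nondeg_top hP) hwm hw0 hw
  obtain ⟨-, h1, h2⟩ := D.mem_cutPair.mp hP2.mv
  exact ⟨⟨v, w, f1, f2, hv, hw, hvw, hf11, hP2.vv, D.eq_zero_comm h2, hvf1, hP2.uv, D.eq_zero_comm h1,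
    D.eq_zero_comm hf1w, dim⟩, rfl, rfl⟩

theorem exists_fr_default (dim : Module.finrank F V = 4) : Nonempty (Fr D) := by
  obtain ⟨u, u', hP⟩ := D.exists_pair D.nondeg_top (by rw [finrank_top]; omega)
  have h2 := D.finrank_cutPair hP
  rw [finrank_top, dim] at h2
  obtain ⟨v, v', hP2⟩ := D.exists_pair (D.nondeg_cutPair D.nondeg_top hP) (by omega)
  obtain ⟨-, h1, h3⟩ := D.mem_cutPair.mp hP2.mu
  obtain ⟨-, h4, h5⟩ := D.mem_cutPair.mp hP2.mv
  exact ⟨⟨u, v, u', v', hP.uu, hP2.uu, D.eq_zero_comm h1, hP.vv, hP2.vv, D.eq_zero_comm h5, hP.uv, hP2.uv,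
    D.eq_zero_comm h4, h3, dim⟩⟩

namespace Fr

variable (P : Fr D)

/-- the linear map attached to a triple -/
noncomputable def aLin (M : F × F × F) : V →ₗ[F] V :=
  LinearMap.id + ((M.1 / sk D) • D.dot P.e1 + (M.2.1 / sk D) • D.dot P.e2).smulRight P.e1
    + ((D.σ M.2.1 / sk D) • D.dot P.e1 + (M.2.2 / sk D) • D.dot P.e2).smulRight P.e2

theorem aLin_apply (M : F × F × F) (x : V) :
    P.aLin M x = x + (M.1 / sk D * D.h x P.e1 + M.2.1 / sk D * D.h x P.e2) • P.e1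
      + (D.σ M.2.1 / sk D * D.h x P.e1 + M.2.2 / sk D * D.h x P.e2) • P.e2 := by
  simp [aLin]

theorem aLin_aLin (M N : F × F × F) (x : V) : P.aLin M (P.aLin N x) = P.aLin (M + N) x := by
  simp only [aLin_apply, D.add_left, D.smul_left, P.e11, P.e22, P.e12, P.e21, Prod.fst_add, Prod.snd_add,
    map_add]
  module

theorem aLin_zero (x : V) : P.aLin 0 x = x := by simp [aLin_apply]

/-- the automorphism attached to a triple -/
noncomputable def aMap (M : F × F × F) : V ≃ₗ[F] V :=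
  LinearEquiv.ofLinearMap (P.aLin M) (P.aLin (-M))
    (by ext x; rw [LinearMap.comp_apply, P.aLin_aLin, add_neg_cancel, P.aLin_zero]; rfl)
    (by ext x; rw [LinearMap.comp_apply, P.aLin_aLin, neg_add_cancel, P.aLin_zero]; rfl)

theorem aMap_apply (M : F × F × F) (x : V) :
    P.aMap M x = x + (M.1 / sk D * D.h x P.e1 + M.2.1 / sk D * D.h x P.e2) • P.e1
      + (D.σ M.2.1 / sk D * D.h x P.e1 + M.2.2 / sk D * D.h x P.e2) • P.e2 :=
  P.aLin_apply M x

theorem aMap_add (M N : F × F × F) : P.aMap (M + N) = P.aMap M * P.aMap N :=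
  LinearEquiv.ext fun x => (P.aLin_aLin M N x).symm

theorem bRel (b : F) : D.ERel P.e1 ((-D.σ (b / sk D)) • P.e2) 0 :=
  ⟨P.e11, by simp [D.smul_left], by simp [D.smul_left, D.smul_right]⟩

theorem aMap_mem {M : F × F × F} (hM : IsReal D M) : P.aMap M ∈ D.SUgrp := by
  have e : P.aMap M = D.tau P.e11 (div_sk_skew hM.1) * D.eEquiv (P.bRel M.2.1)
      * D.tau P.e22 (div_sk_skew hM.2) := by
    refine LinearEquiv.ext fun x => ?_
    simp only [LinearEquiv.mul_apply, aMap_apply, HermData.tau_apply, HermData.eEquiv_apply, D.add_left,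
      D.sub_left, D.smul_left, D.smul_right, P.e11, P.e22, P.e12, P.e21, map_neg, map_div₀, D.σσ, sk_skew]
    match_scalars <;> ring
  rw [e]
  exact mul_mem (mul_mem (D.eEquiv_mem _) (D.eEquiv_mem _)) (D.eEquiv_mem _)

open Classical in
/-- the group element attached to a triple -/
noncomputable def gA (M : F × F × F) : D.SUgrp :=
  if h : IsReal D M then ⟨P.aMap M, P.aMap_mem h⟩ else 1

theorem gA_val {M : F × F × F} (hM : IsReal D M) : (P.gA M : V ≃ₗ[F] V) = P.aMap M := by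
  simp [gA, dif_pos hM]

theorem gA_add {M N : F × F × F} (hM : IsReal D M) (hN : IsReal D N) : P.gA (M + N) = P.gA M * P.gA N := by
  apply Subtype.ext
  rw [Subgroup.coe_mul, P.gA_val hM, P.gA_val hN, P.gA_val (hM.add hN), P.aMap_add]

theorem gA_zero : P.gA 0 = 1 := by
  apply Subtype.ext
  rw [P.gA_val isReal_zero]
  exact LinearEquiv.ext fun x => P.aLin_zero x

theorem gA_apply {M : F × F × F} (hM : IsReal D M) (x : V) :
    (P.gA M : V ≃ₗ[F] V) x = x + (M.1 / sk D * D.h x P.e1 + M.2.1 / sk D * D.h x P.e2) • P.e1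
      + (D.σ M.2.1 / sk D * D.h x P.e1 + M.2.2 / sk D * D.h x P.e2) • P.e2 := by
  rw [P.gA_val hM, aMap_apply]

/-! ### Transvections inside the group -/

/-- the triple of a transvection centred in the line -/
def tTri (r lam mu : F) : F × F × F :=
  (r * (lam * D.σ lam), r * (lam * D.σ mu), r * (mu * D.σ mu))

theorem tTri_real {r : F} (hr : D.σ r = r) (lam mu : F) : IsReal D (tTri (D := D) r lam mu) := by
  constructor <;> simp [tTri, hr, mul_comm, mul_left_comm]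

theorem iso_line (lam mu : F) : D.h (lam • P.e1 + mu • P.e2) (lam • P.e1 + mu • P.e2) = 0 := by
  simp [D.add_left, D.add_right, D.smul_left, D.smul_right]

theorem gA_tTri {r : F} (hr : D.σ r = r) (lam mu : F) :
    P.gA (tTri (D := D) r lam mu) = ⟨D.tau (P.iso_line lam mu) (div_sk_skew hr), D.eEquiv_mem _⟩ := by
  apply Subtype.ext
  refine LinearEquiv.ext fun x => ?_
  rw [P.gA_apply (tTri_real hr lam mu)]
  simp only [HermData.tau_apply, tTri, D.add_right, D.smul_right, map_mul, hr, D.σσ]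
  match_scalars <;> ring

/-! ### Normalising elements -/

theorem conj_diag (P' : Fr D) (g : D.SUgrp) {α δ : F} (h1 : (g : V ≃ₗ[F] V) P.e1 = α • P'.e1)
    (h2 : (g : V ≃ₗ[F] V) P.e2 = δ • P'.e2) {M : F × F × F} (hM : IsReal D M) :
    g * P.gA M = P'.gA (M.1 * (α * D.σ α), M.2.1 * (α * D.σ δ), M.2.2 * (δ * D.σ δ)) * g := by
  have hM' : IsReal D (M.1 * (α * D.σ α), M.2.1 * (α * D.σ δ), M.2.2 * (δ * D.σ δ)) :=
    isReal_mk (by simp [hM.1, mul_comm]) (by simp [hM.2, mul_comm])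
  apply Subtype.ext
  refine LinearEquiv.ext fun x => ?_
  rw [Subgroup.coe_mul, Subgroup.coe_mul, LinearEquiv.mul_apply, LinearEquiv.mul_apply,
    P.gA_apply hM, P'.gA_apply hM', map_add, map_add, map_smul, map_smul, h1, h2,
    ← g.2.1 x P.e1, ← g.2.1 x P.e2, h1, h2]
  simp only [D.smul_right, map_mul, D.σσ]
  match_scalars <;> ring

theorem conj_shear (g : D.SUgrp) {y : F} (h1 : (g : V ≃ₗ[F] V) P.e1 = P.e1)
    (h2 : (g : V ≃ₗ[F] V) P.e2 = P.e2 + y • P.e1) {M : F × F × F} (hM : IsReal D M) :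
    g * P.gA M = P.gA (M.1 + (M.2.1 * D.σ y + D.σ M.2.1 * y) + M.2.2 * (y * D.σ y),
      M.2.1 + y * M.2.2, M.2.2) * g := by
  have hM' : IsReal D (M.1 + (M.2.1 * D.σ y + D.σ M.2.1 * y) + M.2.2 * (y * D.σ y),
      M.2.1 + y * M.2.2, M.2.2) := isReal_mk (by simp [hM.1, hM.2]; ring) hM.2
  apply Subtype.ext
  refine LinearEquiv.ext fun x => ?_
  rw [Subgroup.coe_mul, Subgroup.coe_mul, LinearEquiv.mul_apply, LinearEquiv.mul_apply,
    P.gA_apply hM, P.gA_apply hM', map_add, map_add, map_smul, map_smul, h1, h2,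
    ← g.2.1 x P.e1, ← g.2.1 x P.e2, h1, h2]
  simp only [D.add_right, D.smul_right, map_mul, map_add, D.σσ, hM.2]
  match_scalars <;> ring

theorem conj_swap {M : F × F × F} (hM : IsReal D M) :
    P.swap.gA M = P.gA (M.2.2, D.σ M.2.1, M.1) := by
  apply Subtype.ext
  refine LinearEquiv.ext fun x => ?_
  rw [P.swap.gA_apply hM, P.gA_apply (isReal_mk hM.2 hM.1)]
  simp only [swap_e1, swap_e2, D.σσ]
  match_scalars <;> ring

theorem uRel (y : F) : D.ERel P.e1 ((-D.σ y) • P.f2) 0 :=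
  ⟨P.e11, by simp [D.smul_left], by simp [D.smul_left, D.smul_right]⟩

/-- the shear moving the second vector along the first -/
noncomputable def u (y : F) : D.SUgrp := ⟨D.eEquiv (P.uRel y), D.eEquiv_mem _⟩

theorem u_apply (y : F) (x : V) :
    (P.u y : V ≃ₗ[F] V) x = x + D.h x P.e1 • ((-D.σ y) • P.f2) - D.h x ((-D.σ y) • P.f2) • P.e1 := by
  simp [u]

theorem u_e1 (y : F) : (P.u y : V ≃ₗ[F] V) P.e1 = P.e1 := by simp [u_apply, D.smul_right]

theorem u_e2 (y : F) : (P.u y : V ≃ₗ[F] V) P.e2 = P.e2 + y • P.e1 := by simp [u_apply, D.smul_right]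

theorem u_f1 (y : F) : (P.u y : V ≃ₗ[F] V) P.f1 = P.f1 + (-D.σ y) • P.f2 := by
  simp [u_apply, D.smul_right]

theorem u_f2 (y : F) : (P.u y : V ≃ₗ[F] V) P.f2 = P.f2 := by simp [u_apply, D.smul_right]

theorem u_add (y z : F) : P.u (y + z) = P.u y * P.u z := by
  apply Subtype.ext
  show D.eEquiv (P.uRel (y + z)) = D.eEquiv (P.uRel y) * D.eEquiv (P.uRel z)
  rw [D.eEquiv_mul]
  exact D.eEquiv_congr _ _ (by rw [map_add, neg_add, add_smul]) (by simp [D.smul_left, D.smul_right])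

theorem u_zero : P.u 0 = 1 := Subtype.ext (D.eEquiv_eq_one (P.uRel 0) (by simp) rfl)

theorem u_eq_gA (y : F) : P.u y = P.flip.gA (0, sk D * y, 0) := by
  apply Subtype.ext
  refine LinearEquiv.ext fun x => ?_
  rw [P.u_apply, P.flip.gA_apply (isReal_mk (map_zero _) (map_zero _))]
  have := sk_ne (D := D)
  simp only [flip_e1, flip_e2, D.smul_right, map_mul, map_neg, D.σσ, sk_skew, zero_div, zero_mul]
  match_scalars <;> field_simp <;> ring

theorem u_pow (y : F) (n : ℕ) : P.u y ^ n = P.u ((n : F) * y) := by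
  induction n with
  | zero => simp [u_zero]
  | succ n ih => rw [pow_succ, ih, ← P.u_add]; congr 1; push_cast; ring

theorem exists_dg {c1 c2 : F} (h1 : D.σ c1 = c1) (h2 : D.σ c2 = c2) (h10 : c1 ≠ 0) (h20 : c2 ≠ 0) :
    ∃ g : D.SUgrp, (g : V ≃ₗ[F] V) P.e1 = c1 • P.e1 ∧ (g : V ≃ₗ[F] V) P.e2 = c2 • P.e2 ∧
      (g : V ≃ₗ[F] V) P.f1 = c1⁻¹ • P.f1 ∧ (g : V ≃ₗ[F] V) P.f2 = c2⁻¹ • P.f2 := by
  obtain ⟨t, ht⟩ := D.exists_trace_one
  have hF1 : D.Frame P.e1 P.f1 (P.e2 + t • P.f2) :=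
    ⟨P.e11, P.f11, P.ef1, by simp [D.add_left, D.smul_left], by simp [D.add_left, D.smul_left],
      by
        have e : D.h (P.e2 + t • P.f2) (P.e2 + t • P.f2) = 1 := by
          simp [D.add_left, D.add_right, D.smul_left, D.smul_right]
          linear_combination ht
        rw [e]; exact one_ne_zero⟩
  have hF2 : D.Frame P.e2 P.f2 (P.e1 + t • P.f1) :=
    ⟨P.e22, P.f22, P.ef2, by simp [D.add_left, D.smul_left], by simp [D.add_left, D.smul_left],
      by
        have e : D.h (P.e1 + t • P.f1) (P.e1 + t • P.f1) = 1 := by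
          simp [D.add_left, D.add_right, D.smul_left, D.smul_right]
          linear_combination ht
        rw [e]; exact one_ne_zero⟩
  have m1 := D.dgEquiv_mem hF1 h10 (one_ne_zero (α := F)) (by simp) (by rw [h1, mul_inv_cancel₀ h10, one_mul])
  have m2 := D.dgEquiv_mem hF2 h20 (one_ne_zero (α := F)) (by simp) (by rw [h2, mul_inv_cancel₀ h20, one_mul])
  refine ⟨⟨_, mul_mem m1 m2⟩, ?_, ?_, ?_, ?_⟩ <;>
    simp [LinearEquiv.mul_apply, D.add_left, D.smul_left, D.smul_right, h1, h2] <;>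
    module

/-- any line can be moved to any other, matching the first vectors -/
theorem exists_trans (P' : Fr D) : ∃ (g : D.SUgrp) (c : F), c ≠ 0 ∧ (g : V ≃ₗ[F] V) P.e1 = P'.e1 ∧
    (g : V ≃ₗ[F] V) P.e2 = c • P'.e2 := by
  have hdim : 3 ≤ Module.finrank F (⊤ : Submodule F V) := by rw [finrank_top, P.dim]; omega
  obtain ⟨γ, hγ, hγe⟩ := D.gam_transitive_iso D.nondeg_top hdim (Submodule.mem_top (x := P.e1))
    (Submodule.mem_top (x := P'.e1)) P.e1_ne P'.e1_ne P.e11 P'.e11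
  have hγS := D.gam_le_SUgrp _ hγ
  have hx : D.h (γ P.f1) P'.e1 = 1 := by rw [← hγe, hγS.1, P.fe1]
  obtain ⟨γ', hγ', hγ'f, hγ'e⟩ := D.exists_E_map (x := γ P.f1) (y := P'.f1) (Submodule.mem_top (x := P'.e1))
    P'.e11 trivial trivial (by rw [hx]; exact one_ne_zero) (by rw [hx, P'.fe1])
    (by rw [hγS.1, P.f11, P'.f11])
  set g₁ := γ' * γ with hg₁
  have hg₁S : g₁ ∈ D.SUgrp := mul_mem (D.gam_le_SUgrp _ hγ') hγS
  have g₁e : g₁ P.e1 = P'.e1 := by rw [hg₁, LinearEquiv.mul_apply, hγe, hγ'e]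
  have g₁f : g₁ P.f1 = P'.f1 := by rw [hg₁, LinearEquiv.mul_apply, hγ'f]
  set z := g₁ P.e2 with hz
  have z1 : D.h z P'.e1 = 0 := by rw [hz, ← g₁e, hg₁S.1, P.e21]
  have z2 : D.h z P'.f1 = 0 := by rw [hz, ← g₁f, hg₁S.1, P.ef21]
  have zd : z = D.h z P'.f2 • P'.e2 + D.h z P'.e2 • P'.f2 := by
    conv_lhs => rw [P'.decomp z, z1, z2]
    module
  have hz0 : z ≠ 0 := fun h => P.e2_ne (g₁.map_eq_zero_iff.mp h)
  set al := D.h z P'.f2
  set be := D.h z P'.e2
  rcases eq_or_ne be 0 with hbe | hbe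
  · refine ⟨⟨g₁, hg₁S⟩, al, ?_, g₁e, ?_⟩
    · intro h; exact hz0 (by rw [zd, h, hbe]; simp)
    · show z = _; rw [zd, hbe]; simp
  have hiso : al * D.σ be + be * D.σ al = 0 := by
    have h := hg₁S.1 P.e2 P.e2
    rw [← hz, P.e22, zd] at h
    simp [D.add_left, D.add_right, D.smul_left, D.smul_right] at h
    linear_combination h
  have ha : D.σ (-al / be) = -(-al / be) := by
    have : D.σ be ≠ 0 := (map_ne_zero D.σ).mpr hbe
    rw [map_div₀, map_neg]; field_simp; linear_combination -hiso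
  obtain ⟨s, hs, hs0⟩ := D.exists_skew_ne
  set g₂ := D.weyl P'.e22 P'.f22 hs * D.tau P'.e22 ha
  have hg₂S : g₂ ∈ D.SUgrp :=
    mul_mem (D.tgam_le_SUgrp _ (D.weyl_mem P'.pair2 hs)) (D.eEquiv_mem _)
  refine ⟨⟨g₂ * g₁, mul_mem hg₂S hg₁S⟩, be * s, mul_ne_zero hbe hs0, ?_, ?_⟩
  · show g₂ (g₁ P.e1) = _
    rw [g₁e]
    show D.weyl P'.e22 P'.f22 hs (D.tau P'.e22 ha P'.e1) = _
    rw [HermData.tau_apply, P'.e12, mul_zero, zero_smul, add_zero, D.weyl_fix _ _ hs P'.e12 P'.ef12]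
  · show D.weyl P'.e22 P'.f22 hs (D.tau P'.e22 ha z) = _
    have : D.tau P'.e22 ha z = be • P'.f2 := by
      rw [HermData.tau_apply, show D.h z P'.e2 = be from rfl, div_mul_cancel₀ _ hbe, zd]
      module
    rw [this, map_smul, D.weyl_v P'.pair2 hs hs0, smul_smul]

end Fr

/-- explicit form of the transitivity of the unipotent group of an isotropic vector -/
theorem exists_emap {p x y : V} (hp : D.h p p = 0) (hxp : D.h x p ≠ 0) (hyp : D.h y p = D.h x p)
    (hn : D.h y y = D.h x x) : ∃ (w : V) (a : F) (h : D.ERel p w a), D.eEquiv h x = y := by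
  have hη : D.σ (D.h x p) ≠ 0 := (map_ne_zero D.σ).mpr hxp
  set η := D.h x p with hηd
  set w := η⁻¹ • (y - x) with hw
  have hrel : D.ERel p w (D.h x w / η) := by
    refine ⟨hp, by rw [hw, D.smul_left, D.sub_left, hyp, ← hηd, sub_self, mul_zero], ?_⟩
    rw [map_div₀, D.symm, hw]
    simp only [D.smul_left, D.smul_right, D.sub_left, D.sub_right, map_inv₀]
    field_simp
    linear_combination hn
  refine ⟨w, _, hrel, ?_⟩
  rw [HermData.eEquiv_apply, ← hηd, div_mul_cancel₀ _ hxp, hw, smul_smul, mul_inv_cancel₀ hxp, one_smul]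
  abel

end CfsgLib.KnownSimple.UFour
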