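import Cfsg.Agent.Lib.KnownSimple.PSUFour.Points

set_option autoImplicit false
set_option linter.unusedSectionVars false
set_option linter.unusedSimpArgs false
set_option linter.unnecessarySeqFocus false

/-!
Degree of a non-trivial transitive permutation representation of a four-dimensional special unitary
group, and the representation on totally isotropic lines.
-/

namespace CfsgLib.KnownSimple.UFour

open CfsgLib.KnownSimple.Unitary
open scoped Pointwise

attribute [local simp] HermData.neg_left HermData.neg_right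

variable {F V : Type*} [Field F] [Fintype F] [AddCommGroup V] [Module F V] {D : HermData F V}
  [FiniteDimensional F V] [Finite V]

theorem fixed_of_all {Ω : Type*} [MulAction D.SUgrp Ω] (hgen : D.SUgrp ≤ D.tgam ⊤) {ω : Ω}
    (hall : ∀ v, D.h v v = 0 → InS D ω v) (g : D.SUgrp) : g • ω = ω := by
  have key : ∀ γ, ∀ hγ : γ ∈ D.tgam (⊤ : Submodule F V),
      (⟨γ, D.tgam_le_SUgrp _ hγ⟩ : D.SUgrp) • ω = ω := by
    intro γ hγ
    induction hγ using Subgroup.closure_induction with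
    | mem γ h =>
      obtain ⟨u, a, hu, ha, -, rfl⟩ := h
      exact (hall u hu).2 hu a ha
    | one => exact one_smul _ ω
    | mul γ γ' h h' e e' =>
      show ((⟨γ, D.tgam_le_SUgrp _ h⟩ : D.SUgrp) * ⟨γ', D.tgam_le_SUgrp _ h'⟩) • ω = ω
      rw [mul_smul, e', e]
    | inv γ h e =>
      show (⟨γ, D.tgam_le_SUgrp _ h⟩ : D.SUgrp)⁻¹ • ω = ω
      conv_lhs => rw [← e]
      rw [inv_smul_smul]
  exact key g (hgen g.2)

namespace Fr

variable (P : Fr D) {Ω : Type*} [MulAction D.SUgrp Ω] [Finite Ω]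

theorem whole_iff_card (ω : Ω) : P.Whole ω ↔ Nat.card (P.del ω) = D.q ^ 4 := by
  constructor
  · intro h
    rw [show P.del ω = realT D from le_antisymm (ann_le _) fun H hH => h H hH, card_realT]
  · intro h H hH
    have e : P.del ω = realT D := SetLike.coe_injective (Set.eq_of_subset_of_ncard_le (ann_le _)
      (by
        rw [← Nat.card_coe_set_eq, ← Nat.card_coe_set_eq]
        show Nat.card (realT D) ≤ Nat.card (P.del ω)
        rw [h, card_realT])
      (Set.toFinite _))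
    rw [e]; exact hH

theorem whole_iff_stab (ω : Ω) : P.Whole ω ↔ ∀ M, IsReal D M → P.gA M • ω = ω → M = 0 := by
  rw [P.whole_iff_card]
  have h := card_ann (D := D) (P.stab_le ω)
  change Nat.card (P.del ω) * Nat.card (P.stab ω) = _ at h
  constructor
  · intro hc M hM hfix
    rw [hc] at h
    have h1 : Nat.card (P.stab ω) = 1 :=
      Nat.eq_of_mul_eq_mul_left (pow_pos (show 0 < D.q by have := D.two_le; omega) 4) (by rw [h, mul_one])
    obtain ⟨_, hsub⟩ := (Nat.card_eq_one_iff_unique.mp h1)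
    have : Subsingleton (P.stab ω) := (Nat.card_eq_one_iff_unique.mp h1).1
    exact congrArg Subtype.val (Subsingleton.elim (⟨M, hM, hfix⟩ : P.stab ω) 0)
  · intro hz
    have hb : P.stab ω = ⊥ := (AddSubgroup.eq_bot_iff_forall _).mpr fun M hM => hz M hM.1 hM.2
    rw [hb, AddSubgroup.card_bot, mul_one] at h
    exact h

theorem free_inj {ω : Ω} (hw : P.Whole ω) {M N : F × F × F} (hM : IsReal D M) (hN : IsReal D N)
    (h : P.gA M • ω = P.gA N • ω) : M = N := by
  have := (P.whole_iff_stab ω).mp hw (-N + M) (hN.neg.add hM) (by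
    rw [P.gA_add hN.neg hM, mul_smul, h, ← mul_smul, ← P.gA_add hN.neg hN, neg_add_cancel, P.gA_zero, one_smul])
  exact (eq_of_neg_add_eq_zero this).symm

theorem whole_swap {ω : Ω} (hw : P.Whole ω) : P.swap.Whole ω := fun H hH =>
  (P.swap_del ω H).mpr (hw _ ((swapT_real H).mpr hH))

theorem whole_lev {g : D.SUgrp} {ρ : (F × F × F) ≃+ (F × F × F)} (hl : P.Lev Ω g ρ) {ω : Ω}
    (hw : P.Whole ω) : P.Whole (g • ω) := by
  rw [P.whole_iff_card] at hw ⊢
  rw [Lev.card_del P hl, hw]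

theorem card_linear {ω : Ω} (hlin : P.Linear ω) : Nat.card (P.del ω) ≤ D.q := by
  classical
  by_cases hz : ∀ H ∈ P.del ω, H = 0
  · have hb : P.del ω = ⊥ := (AddSubgroup.eq_bot_iff_forall _).mpr hz
    rw [hb, AddSubgroup.card_bot]
    have := D.two_le
    omega
  push Not at hz
  obtain ⟨H, hH, h0⟩ := hz
  rw [← D.card_fixed]
  have hr : ∀ K : P.del ω, ∃ r : {a : F // D.σ a = a}, (K : F × F × F) = (r : F) • H := fun K => by
    obtain ⟨r, hr, e⟩ := hlin H hH h0 K K.2
    exact ⟨⟨r, hr⟩, e⟩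
  choose f hf using hr
  exact Nat.card_le_card_of_injective f fun a b e => Subtype.ext (by rw [hf a, hf b, e])

/-- the points whose annihilator is as large as a given one, through a class -/
theorem class_bound {ω : Ω} (hlin : P.Linear ω) {Cl : Finset (F × F × F)} (hcl : P.Closed Ω Cl)
    {h : F × F × F} (hh : h ∈ P.del ω) (hconn : ∀ H ∈ Cl, P.Rel Ω h H) (h0 : (0 : F × F × F) ∉ Cl) :
    ∃ U : Set Ω, (∀ y ∈ U, Nat.card (P.del y) = Nat.card (P.del ω)) ∧
      D.q * Cl.card ≤ (D.q - 1) * U.ncard := by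
  obtain ⟨U, hU, hU2⟩ := P.count hcl ω hh hconn ![(1 : D.SUgrp)]
    (fun i => by fin_cases i; exact ⟨_, Lev.refl P, rfl⟩) (fun i j _ => Subsingleton.elim i j)
  refine ⟨U, hU, ?_⟩
  have hn := inter_succ_le (P.del ω) (Cl := Cl) h0
  have hc := P.card_linear hlin
  set c := Nat.card (P.del ω)
  set n := {H | H ∈ Cl ∧ H ∈ P.del ω}.ncard
  obtain ⟨d, hd⟩ : ∃ d, c = d + 1 := ⟨c - 1, by omega⟩
  obtain ⟨e, he⟩ : ∃ e, D.q = d + 1 + e := ⟨D.q - (d + 1), by omega⟩
  have hnd : U.ncard * n ≤ U.ncard * d := Nat.mul_le_mul_left _ (by omega)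
  simp only [Nat.succ_eq_add_one, zero_add, one_mul] at hU2
  rw [he, show d + 1 + e - 1 = d + e by omega]
  rw [hd] at hU2
  have h3 : Cl.card * (d + 1) ≤ U.ncard * d := hU2.trans hnd
  have h4 : Cl.card ≤ U.ncard := by
    refine Nat.le_of_mul_le_mul_right (h3.trans ?_) (Nat.succ_pos d)
    exact Nat.mul_le_mul_left _ (Nat.le_succ d)
  nlinarith [Nat.mul_le_mul_right e h4]

/-- the type of a point -/
def Sing (ω : Ω) : Prop := P.Linear ω ∧ ∃ H ∈ P.del ω, H ≠ 0 ∧ Qf D H = 0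

/-- trivial annihilator -/
def Triv (ω : Ω) : Prop := ∀ H ∈ P.del ω, H = 0

theorem triv_iff_card (ω : Ω) : P.Triv ω ↔ Nat.card (P.del ω) = 1 := by
  rw [Triv, ← AddSubgroup.eq_bot_iff_forall]
  exact ⟨fun h => by rw [h, AddSubgroup.card_bot], AddSubgroup.eq_bot_of_card_eq _⟩

theorem not_whole_of_card {ω : Ω} (hw : Nat.card (P.del ω) ≤ D.q) : ¬ P.Whole ω := by
  rw [P.whole_iff_card]
  intro h
  have hq := D.two_le
  have : D.q ^ 1 < D.q ^ 4 := Nat.pow_lt_pow_right (by omega) (by omega)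
  rw [pow_one] at this
  omega

theorem exists_whole (P₀ : Fr D) {ω₀ : Ω} (h₀ : P₀.Whole ω₀) : ∃ ω : Ω, P.Whole ω := by
  obtain ⟨g, ρ, -, h⟩ := P₀.trans_moved (Ω := Ω) P
  refine ⟨g • ω₀, ?_⟩
  rw [P.whole_iff_card, ← (P₀.whole_iff_card ω₀).mp h₀]
  exact (Nat.card_congr (ρ.toEquiv.subtypeEquiv fun H => (h ω₀).1 H)).symm

theorem exists_triv (P₀ : Fr D) {ω₀ : Ω} (h₀ : P₀.Triv ω₀) : ∃ ω : Ω, P.Triv ω := by
  obtain ⟨g, ρ, -, h⟩ := P₀.trans_moved (Ω := Ω) P
  refine ⟨g • ω₀, ?_⟩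
  rw [P.triv_iff_card, ← (P₀.triv_iff_card ω₀).mp h₀]
  exact (Nat.card_congr (ρ.toEquiv.subtypeEquiv fun H => (h ω₀).1 H)).symm

theorem exists_sing (hd : Small (D := D) Ω) (P₀ : Fr D) {ω₀ : Ω} (h₀ : P₀.Sing ω₀) : ∃ ω : Ω, P.Sing ω := by
  obtain ⟨g, ρ, hq, h⟩ := P₀.trans_moved (Ω := Ω) P
  obtain ⟨hlin, H, hH, h0, hQ⟩ := h₀
  have hc : Nat.card (P.del (g • ω₀)) ≤ D.q := by
    rw [← Nat.card_congr (ρ.toEquiv.subtypeEquiv fun H => (h ω₀).1 H)]
    exact P₀.card_linear hlin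
  exact ⟨g • ω₀, (P.shape hd _).resolve_left (P.not_whole_of_card hc), ρ H, ((h ω₀).1 H).mp hH,
    ρ.map_ne_zero_iff.mpr h0, hq H (P₀.del_real hH) hQ⟩

theorem orb_unique (hd : Small (D := D) Ω) {ω ω' : Ω} (h : P.Whole ω) (h' : P.Whole ω') :
    ω' ∈ P.orb ω := by
  by_contra hne
  have hdis : Disjoint (P.orb ω) (P.orb ω') := Set.disjoint_left.mpr fun x hx hx' =>
    hne ((P.orb_eq hx).symm.trans (P.orb_eq hx') ▸ P.orb_self ω')
  have h1 := Set.ncard_le_card (P.orb ω ∪ P.orb ω')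
  rw [Set.ncard_union_eq hdis (Set.toFinite _) (Set.toFinite _), P.card_orb, P.card_orb,
    (P.whole_iff_card ω).mp h, (P.whole_iff_card ω').mp h'] at h1
  have hd' : Nat.card Ω < (D.q + 1) * (D.q ^ 3 + 1) := hd
  obtain ⟨j, hj⟩ : ∃ j, D.q = j + 2 := ⟨D.q - 2, by have := D.two_le; omega⟩
  rw [hj] at h1 hd'
  have key : (j + 2 + 1) * ((j + 2) ^ 3 + 1) ≤ (j + 2) ^ 4 + (j + 2) ^ 4 := by ring_nf; nlinarith
  omega

theorem outside_orb {ω : Ω} (h : P.Whole ω) {U : Set Ω} (hU : ∀ y ∈ U, Nat.card (P.del y) ≤ D.q) :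
    D.q ^ 4 + U.ncard ≤ Nat.card Ω := by
  have hdis : Disjoint (P.orb ω) U := Set.disjoint_left.mpr fun x hx hx' => by
    refine P.not_whole_of_card (hU x hx') ?_
    rw [P.whole_iff_card, P.del_orb hx, (P.whole_iff_card ω).mp h]
  have h1 := Set.ncard_le_card (P.orb ω ∪ U)
  rwa [Set.ncard_union_eq hdis (Set.toFinite _) (Set.toFinite _), P.card_orb, (P.whole_iff_card ω).mp h] at h1

theorem sing_class {ω : Ω} (hs : P.Sing ω) :
    ∃ U : Set Ω, (∀ y ∈ U, Nat.card (P.del y) = Nat.card (P.del ω)) ∧ D.q * (D.q ^ 2 + 1) ≤ U.ncard := by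
  obtain ⟨hlin, H, hH, h0, hQ⟩ := hs
  obtain ⟨U, hU, hU2⟩ := P.class_bound hlin P.sgCl_closed hH
    (fun K hK => P.sg_conn (mem_sgCl.mpr ⟨P.del_real hH, h0, hQ⟩) hK) (fun h => (mem_sgCl.mp h).2.1 rfl)
  refine ⟨U, hU, Nat.le_of_mul_le_mul_left ?_ (show 0 < D.q - 1 by have := D.two_le; omega)⟩
  refine le_trans (le_of_eq ?_) ((Nat.mul_le_mul_left D.q (card_sgCl (D := D))).trans hU2)
  ring

theorem trichotomy (hd : Small (D := D) Ω) {ω₀ : Ω} (h₀ : P.Whole ω₀) (ω : Ω) :
    P.Whole ω ∨ P.Triv ω ∨ P.Sing ω := by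
  refine or_iff_not_imp_left.mpr fun hnw => or_iff_not_imp_left.mpr fun hnt => ?_
  have hlin : P.Linear ω := (P.shape hd ω).resolve_left hnw
  simp only [Triv, not_forall] at hnt
  obtain ⟨H, hH, h0⟩ := hnt
  refine ⟨hlin, H, hH, h0, ?_⟩
  by_contra hQ
  obtain ⟨B, hB, g, ρ, hl, e⟩ := P.exists_rel_mid (Ω := Ω) (P.del_real hH) hQ
  have hh : ((0 : F), B, (0 : F)) ∈ P.del (g • ω) := e ▸ (hl.mem ω H).mp hH
  have hc : Nat.card (P.del (g • ω)) ≤ D.q := by rw [Lev.card_del P hl]; exact P.card_linear hlin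
  have hne : Qf D ((0 : F), B, (0 : F)) ≠ 0 := by simp [Qf, hB]
  obtain ⟨U, hU, hU2⟩ := P.class_bound ((P.shape hd _).resolve_left (P.not_whole_of_card hc))
    (P.nsCl_closed _) hh (fun K hK => P.ns_conn hB hK) (zero_notMem_nsCl hne)
  have h1 := P.outside_orb h₀ (U := U) fun y hy => (hU y hy).le.trans hc
  obtain ⟨c1, -, c3⟩ := card_sqVals (D := D)
  have hC := (Nat.mul_le_mul_left D.q (card_nsCl (D := D) hB)).trans hU2
  have hd' : Nat.card Ω < (D.q + 1) * (D.q ^ 3 + 1) := hd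
  rcases (by have := D.two_le; omega : D.q = 2 ∨ 3 ≤ D.q) with hq | hq
  · rw [hq] at hC h1 hd'
    simp only [show (2 : ℕ) - 1 = 1 from rfl, one_mul] at hC
    omega
  · have h2 : D.q * ((D.q - 1) * (D.q ^ 3 + D.q)) ≤ (D.q - 1) * (2 * U.ncard) := by
      calc D.q * ((D.q - 1) * (D.q ^ 3 + D.q)) ≤ D.q * (2 * (sqVals D).card * (D.q ^ 3 + D.q)) := by gcongr
        _ = 2 * (D.q * ((sqVals D).card * (D.q ^ 3 + D.q))) := by ring
        _ ≤ 2 * ((D.q - 1) * U.ncard) := Nat.mul_le_mul_left 2 hC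
        _ = _ := by ring
    rw [mul_left_comm] at h2
    have h3 := Nat.le_of_mul_le_mul_left h2 (by omega)
    obtain ⟨j, hj⟩ : ∃ j, D.q = j + 3 := ⟨D.q - 3, by omega⟩
    rw [hj] at h3 h1 hd'
    nlinarith

theorem gA_smul_conj {g : D.SUgrp} {lam : F} (hl : D.σ lam = lam) (he1 : (g : V ≃ₗ[F] V) P.e1 = lam • P.e1)
    (he2 : (g : V ≃ₗ[F] V) P.e2 = lam • P.e2) {M : F × F × F} (hM : IsReal D M) :
    g * P.gA M = P.gA ((lam * lam) • M) * g := by
  rw [P.conj_diag P g he1 he2 hM, hl]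
  congr 2
  refine Prod.ext ?_ (Prod.ext ?_ ?_) <;> simp [mul_comm]

/-- a point of the regular orbit fixed by the shears makes the opposite second vector a fixed one -/
theorem f2_fixed (hd : Small (D := D) Ω) {ω : Ω} (hw : P.Whole ω) (hu : ∀ y, P.u y • ω = ω)
    (hnz : ∀ (R : Fr D) (x : Ω), ¬ R.Triv x) : InS D ω P.f2 := by
  have hB : ∀ H ∈ P.flip.del ω, H.2.1 = 0 := by
    intro H hH
    by_contra hne
    obtain ⟨e, he⟩ := D.exists_trace_one
    have hne' : H.2.1 * sk D ≠ 0 := mul_ne_zero hne sk_ne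
    have h := hu (e / (H.2.1 * sk D))
    rw [P.u_eq_gA, P.flip.fix_iff (isReal_mk (map_zero _) (map_zero _))] at h
    have h1 := h H hH
    rw [show ph D H (0, sk D * (e / (H.2.1 * sk D)), 0) = 1 by
      simp only [ph, mul_zero, add_zero, zero_add, ← mul_assoc, mul_div_cancel₀ _ hne']
      exact he] at h1
    exact chi_one h1
  have hnw : ¬ P.flip.Whole ω := fun h =>
    one_ne_zero (α := F) (hB (0, 1, 0) (h _ (isReal_mk (map_zero _) (map_zero _))))
  have hlin : P.flip.Linear ω := (P.flip.shape hd ω).resolve_left hnw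
  obtain ⟨H, hH, h0⟩ : ∃ H ∈ P.flip.del ω, H ≠ 0 := by
    have := hnz P.flip ω
    simp only [Triv, not_forall] at this
    obtain ⟨H, h, h'⟩ := this
    exact ⟨H, h, h'⟩
  by_cases hC : H.2.2 = 0
  · rw [← P.flip_e2, P.flip.inS_e2]
    intro K hK
    obtain ⟨r, -, rfl⟩ := hlin H hH h0 K hK
    simp [hC]
  · exfalso
    -- the only other possibility puts the first vector among the fixed ones
    obtain ⟨e, he⟩ := D.exists_trace_one
    have hA : ∀ K ∈ P.flip.del ω, K.1 = 0 := by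
      intro K hK
      obtain ⟨r, -, rfl⟩ := hlin H hH h0 K hK
      by_contra hA
      have hA' : H.1 ≠ 0 := fun h => hA (by simp [h])
      have hQ : Qf D H ≠ 0 := by simp [Qf, hB H hH, hA', hC]
      obtain ⟨ω₁, hω₁⟩ := P.flip.exists_whole P hw
      rcases P.flip.trichotomy hd hω₁ ω with h | h | ⟨-, K, hK, hK0, hKQ⟩
      · exact hnw h
      · exact hnz _ _ h
      · obtain ⟨r, hr, rfl⟩ := hlin H hH h0 K hK
        rw [Qf_smul hr] at hKQ
        exact hK0 (by rw [(pow_eq_zero_iff two_ne_zero).mp ((mul_eq_zero.mp hKQ).resolve_right hQ), zero_smul])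
    have h1 : InS D ω P.e1 := (P.flip.inS_e1 ω).mpr hA
    exact one_ne_zero (α := F) ((P.inS_e1 ω).mp h1 (1, 0, 0) (hw _ (isReal_mk (map_one _) (map_zero _))))

end Fr

variable {Ω : Type*} [MulAction D.SUgrp Ω] [Finite Ω]

theorem no_triv_large (hd : Fr.Small (D := D) Ω) (hq : 4 ≤ D.q) (P : Fr D) {ω₁ : Ω} (hw : P.Whole ω₁)
    (hnz : ∀ (R : Fr D) (x : Ω), ¬ R.Triv x) : False := by
  classical
  obtain ⟨lam, hl, hl0, hl1, hl2⟩ : ∃ lam : F, D.σ lam = lam ∧ lam ≠ 0 ∧ lam ≠ 1 ∧ lam ≠ -1 := by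
    by_contra hc
    push Not at hc
    have hsub : (Finset.univ.filter fun a : F => D.σ a = a) ⊆ {0, 1, -1} := by
      intro a ha
      simp only [Finset.mem_filter, Finset.mem_univ, true_and] at ha
      by_cases h0 : a = 0
      · simp [h0]
      by_cases h1 : a = 1
      · simp [h1]
      simp [hc a ha h0 h1]
    have h1 := (Finset.card_le_card hsub).trans Finset.card_le_three
    rw [← Fintype.card_subtype, ← Nat.card_eq_fintype_card, D.card_fixed] at h1
    omega
  have hl2' : lam * lam ≠ 1 := fun h => (mul_self_eq_one_iff.mp h).elim hl1 hl2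
  have hll : D.σ (lam * lam) = lam * lam := by rw [map_mul, hl]
  obtain ⟨z, hz1, hz2, hz3, hz4⟩ := P.exists_dg hl hl hl0 hl0
  have hconj : ∀ {M}, IsReal D M → z * P.gA M = P.gA ((lam * lam) • M) * z := fun hM =>
    P.gA_smul_conj hl hz1 hz2 hM
  have hzw : P.Whole (z • ω₁) := by
    rw [P.whole_iff_stab]
    intro M hM hfix
    have hM' : IsReal D ((lam * lam)⁻¹ • M) := hM.smul (by rw [map_inv₀, hll])
    have e : z • P.gA ((lam * lam)⁻¹ • M) • ω₁ = z • ω₁ := by
      rw [← mul_smul, hconj hM', mul_smul, smul_inv_smul₀ (mul_ne_zero hl0 hl0), hfix]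
    have := (P.whole_iff_stab ω₁).mp hw _ hM' (MulAction.injective z e)
    exact (smul_eq_zero.mp this).resolve_left (inv_ne_zero (mul_ne_zero hl0 hl0))
  obtain ⟨M₀, hM₀, hz⟩ := P.orb_unique hd hw hzw
  have h1l : (1 : F) - lam * lam ≠ 0 := sub_ne_zero.mpr (Ne.symm hl2')
  set M := (1 - lam * lam)⁻¹ • M₀
  have hM : IsReal D M := hM₀.smul (by rw [map_inv₀, map_sub, map_one, hll])
  set ω := P.gA M • ω₁
  have hzω : z • ω = ω := by
    show z • P.gA M • ω₁ = P.gA M • ω₁
    rw [← mul_smul, hconj hM, mul_smul, ← hz, ← mul_smul, ← P.gA_add (hM.smul hll) hM₀]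
    congr 2
    simp only [M, smul_smul]
    nth_rewrite 2 [← one_smul F M₀]
    rw [← add_smul]
    congr 1
    linear_combination -(inv_mul_cancel₀ h1l)
  have hωw : P.Whole ω := fun H hH => by
    rw [P.del_orb (show ω ∈ P.orb ω₁ from ⟨M, hM, rfl⟩)]
    exact hw H hH
  have huniq : ∀ x, P.Whole x → z • x = x → x = ω := by
    intro x hx hzx
    obtain ⟨N, hN, rfl⟩ := P.orb_unique hd hωw hx
    rw [← mul_smul, hconj hN, mul_smul, hzω] at hzx
    have e := P.free_inj hωw (hN.smul hll) hN hzx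
    have hN0 : (lam * lam - 1) • N = 0 := by rw [sub_smul, one_smul, e, sub_self]
    rw [(smul_eq_zero.mp hN0).resolve_left (sub_ne_zero.mpr hl2'), P.gA_zero, one_smul]
  have hfixu : ∀ y, P.u y • ω = ω := by
    intro y
    refine huniq _ (P.whole_lev (P.u_lev y) hωw) ?_
    have hc : z * P.u y = P.u y * z := by
      apply Subtype.ext
      refine P.ext_equiv ?_ ?_ ?_ ?_ <;>
        simp [LinearEquiv.mul_apply, hz1, hz2, hz3, hz4, P.u_e1, P.u_e2, P.u_f1, P.u_f2, smul_smul, mul_comm]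
    rw [← mul_smul, hc, mul_smul, hzω]
  have hfixl : ∀ y, P.swap.u y • ω = ω := by
    intro y
    refine huniq _ ?_ ?_
    · exact P.whole_lev (P.l_lev y) hωw
    · have hc : z * P.swap.u y = P.swap.u y * z := by
        apply Subtype.ext
        have l1 : (P.swap.u y : V ≃ₗ[F] V) P.e2 = P.e2 := P.swap.u_e1 y
        have l2 : (P.swap.u y : V ≃ₗ[F] V) P.e1 = P.e1 + y • P.e2 := P.swap.u_e2 y
        have l3 : (P.swap.u y : V ≃ₗ[F] V) P.f2 = P.f2 + (-D.σ y) • P.f1 := P.swap.u_f1 y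
        have l4 : (P.swap.u y : V ≃ₗ[F] V) P.f1 = P.f1 := P.swap.u_f2 y
        refine P.ext_equiv ?_ ?_ ?_ ?_ <;>
          simp [LinearEquiv.mul_apply, hz1, hz2, hz3, hz4, l1, l2, l3, l4, smul_smul, mul_comm]
      rw [← mul_smul, hc, mul_smul, hzω]
  have hf2 : InS D ω P.f2 := P.f2_fixed hd hωw hfixu hnz
  have hf1 : InS D ω P.f1 := P.swap.f2_fixed hd (P.whole_swap hωw) hfixl hnz
  refine hnz P.opp ω fun H hH => ?_
  have hA : H.1 = 0 := (P.opp.inS_e1 ω).mp hf1 H hH
  have hC : H.2.2 = 0 := (P.opp.inS_e2 ω).mp hf2 H hH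
  refine Prod.ext hA (Prod.ext ?_ hC)
  by_contra hB
  change H.2.1 ≠ 0 at hB
  obtain ⟨e, he⟩ := D.exists_trace_one
  set y := -(e / H.2.1)
  have hy := (hf1.map (hfixu y))
  rw [P.u_f1] at hy
  have h1 : InS D ω ((1 : F) • P.opp.e1 + (-D.σ y) • P.opp.e2) := by simpa using hy
  have h2 := (P.opp.inS_iff ω _ _).mp h1 H hH
  refine one_ne_zero (α := F) ?_
  rw [← h2]
  simp only [hf, hA, hC, map_neg, map_one, D.σσ, y, neg_neg, zero_mul, add_zero, zero_add, one_mul,
    mul_div_cancel₀ _ hB]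
  exact he.symm

theorem no_regular_two (hd : Fr.Small (D := D) Ω) (hq : D.q = 2) (P : Fr D)
    (hall : ∀ (R : Fr D) (x : Ω), R.Whole x) (ω : Ω) : False := by
  have h2 := two_eq_zero (D := D) hq
  set g := P.u 1
  obtain ⟨M, hM, hg⟩ := P.orb_unique hd (hall P ω) (P.whole_lev (P.u_lev 1) (hall P ω))
  let π : F × F × F → F × F × F := fun M =>
    (M.1 + (M.2.1 * D.σ 1 + D.σ M.2.1 * 1) + M.2.2 * (1 * D.σ 1), M.2.1 + 1 * M.2.2, M.2.2)
  have hπr : ∀ M, IsReal D M → IsReal D (π M) := fun M hM =>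
    isReal_mk (by simp [hM.1, hM.2]; ring) hM.2
  have hπ : ∀ {M}, IsReal D M → g * P.gA M = P.gA (π M) * g := fun hM =>
    P.conj_shear g (P.u_e1 1) (P.u_e2 1) hM
  have hgg : g * g = 1 := by rw [← P.u_add, show (1 : F) + 1 = 0 by linear_combination h2, P.u_zero]
  have e1 : π M + M = 0 := by
    refine P.free_inj (hall P ω) ((hπr M hM).add hM) isReal_zero ?_
    rw [P.gA_zero, one_smul, P.gA_add (hπr M hM) hM, mul_smul, hg, ← mul_smul, ← hπ hM, mul_smul, hg,
      ← mul_smul, hgg, one_smul]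
  obtain ⟨a, b, c⟩ := M
  simp only [π, Prod.mk_add_mk, Prod.mk_eq_zero, map_one, mul_one, one_mul] at e1
  obtain ⟨ea, eb, -⟩ := e1
  have hc : c = 0 := by linear_combination eb - b * h2
  subst hc
  have hb : D.σ b = b := by linear_combination ea - (a + b) * h2
  obtain ⟨b', hb'⟩ := D.exists_trace (b := a + b) (by rw [map_add, hb, show D.σ a = a from hM.1])
  have hN : IsReal D ((0 : F), b', b) := isReal_mk (map_zero _) hb
  have hfix : g • P.gA (0, b', b) • ω = P.gA (0, b', b) • ω := by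
    rw [← mul_smul, hπ hN, mul_smul, ← hg, ← mul_smul, ← P.gA_add (hπr _ hN) hM]
    congr 2
    refine Prod.ext ?_ (Prod.ext ?_ ?_) <;> simp [π]
    · linear_combination hb' + a * h2 + b * h2
    · linear_combination b * h2
  have := (P.flip.whole_iff_stab _).mp (hall P.flip (P.gA (0, b', b) • ω)) (0, sk D * 1, 0)
    (isReal_mk (map_zero _) (map_zero _)) (by rw [← P.u_eq_gA]; exact hfix)
  simp [sk_ne] at this

/-- the degree of a non-trivial transitive action below the number of lines -/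
theorem small_degree [MulAction.IsPretransitive D.SUgrp Ω] (dim : Module.finrank F V = 4)
    (hI : (D.normSet (⊤ : Submodule F V) 0).ncard = (D.q ^ 2 - 1) * (D.q ^ 2 + 1) * (D.q ^ 3 + 1))
    (hgen : D.SUgrp ≤ D.tgam ⊤) (hne : ∀ ω : Ω, ∃ g : D.SUgrp, g • ω ≠ ω) (ω₀ : Ω)
    (hd : Nat.card Ω < (D.q + 1) * (D.q ^ 3 + 1)) :
    (D.q ≤ 3 ∧ Nat.card Ω + 1 = (D.q + 1) * (D.q ^ 3 + 1)) ∨ (D.q = 3 ∧ Nat.card Ω = 81) := by
  have hsmall : Fr.Small (D := D) Ω := hd
  have hfix : ∀ {ω : Ω}, (∀ v, D.h v v = 0 → InS D ω v) → False := fun {ω} h => by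
    obtain ⟨g, hg⟩ := hne ω
    exact hg (fixed_of_all hgen h g)
  obtain ⟨P, hP⟩ : ∃ P : Fr D, ∃ ω : Ω, P.Whole ω := by
    by_contra hcon
    push Not at hcon
    exact hfix (all_of_no_whole hsmall dim hI fun P => hcon P ω₀)
  obtain ⟨ω₁, hw⟩ := hP
  have hwhole : ∀ R : Fr D, ∃ ω : Ω, R.Whole ω := fun R => R.exists_whole P hw
  have hqpos := D.two_le
  have htri : ∀ (R : Fr D) (x : Ω), R.Whole x ∨ R.Triv x ∨ R.Sing x := fun R x => by
    obtain ⟨ω, hω⟩ := hwhole R
    exact R.trichotomy hsmall hω x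
  by_cases hs : ∃ (R : Fr D) (x : Ω), R.Sing x
  · obtain ⟨R, x, hx⟩ := hs
    obtain ⟨y, hy⟩ := P.exists_sing hsmall R hx
    obtain ⟨U, hU, hU2⟩ := P.sing_class hy
    have hc := P.card_linear hy.1
    have h1 := P.outside_orb hw fun z hz => (hU z hz).le.trans hc
    have hsum : D.q ^ 4 + D.q * (D.q ^ 2 + 1) + 1 = (D.q + 1) * (D.q ^ 3 + 1) := by ring
    have hnz : ∀ (R : Fr D) (x : Ω), ¬ R.Triv x := by
      intro R x hx
      obtain ⟨t, ht⟩ := P.exists_triv R hx
      have htU : t ∉ U := by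
        intro htU
        obtain ⟨-, H, hH, h0, -⟩ := hy
        have hb := AddSubgroup.eq_bot_of_card_eq _ ((hU t htU).symm.trans ((P.triv_iff_card t).mp ht))
        exact h0 (AddSubgroup.mem_bot.mp (hb ▸ hH))
      have h2 := P.outside_orb hw (U := insert t U) fun z hz => by
        rcases hz with rfl | hz
        · rw [(P.triv_iff_card z).mp ht]; omega
        · exact (hU z hz).le.trans hc
      rw [Set.ncard_insert_of_notMem htU (Set.toFinite _)] at h2
      omega
    rcases le_or_gt D.q 3 with hq | hq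
    · exact Or.inl ⟨hq, by omega⟩
    · exact (no_triv_large hsmall (by omega) P hw hnz).elim
  push Not at hs
  by_cases hz : ∃ (R : Fr D) (x : Ω), R.Triv x
  · obtain ⟨R, x, hx⟩ := hz
    obtain ⟨ω, hω⟩ := P.exists_triv R hx
    refine (hfix (ω := ω) fun v hv => ?_).elim
    have hE : ∀ lam mu : F, InS D ω (lam • P.e1 + mu • P.e2) := fun l m => P.pts_all hω
    by_cases hv0 : v = 0
    · simpa [hv0] using hE 0 0
    obtain ⟨l, m, hlm, horth⟩ : ∃ l m : F, (l ≠ 0 ∨ m ≠ 0) ∧ D.h (l • P.e1 + m • P.e2) v = 0 := by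
      by_cases h1 : D.h P.e1 v = 0
      · exact ⟨1, 0, Or.inl one_ne_zero, by simp [h1]⟩
      · exact ⟨D.h P.e2 v, -D.h P.e1 v, Or.inr (neg_ne_zero.mpr h1), by
          simp [D.add_left, D.smul_left]; ring⟩
    by_cases hmult : ∃ c : F, v = c • (l • P.e1 + m • P.e2)
    · obtain ⟨c, rfl⟩ := hmult
      exact (hE l m).smul c
    push Not at hmult
    obtain ⟨R, hR1, hR2⟩ := exists_fr dim (P.iso_line l m) hv horth (P.line_ne hlm) hmult
    have hA : ∀ H ∈ R.del ω, H.1 = 0 := (R.inS_e1 ω).mp (hR1 ▸ hE l m)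
    rcases htri R ω with h | h | h
    · exact absurd (hA _ (h _ (isReal_mk (b := 0) (map_one _) (map_zero _)))) one_ne_zero
    · have := R.pts_all h (lam := 0) (mu := 1)
      simpa [hR2] using this
    · exact absurd h (hs R ω)
  push Not at hz
  have hall : ∀ (R : Fr D) (x : Ω), R.Whole x := fun R x =>
    (htri R x).elim id fun h => h.elim (fun h => absurd h (hz R x)) fun h => absurd h (hs R x)
  rcases (by omega : D.q = 2 ∨ D.q = 3 ∨ 4 ≤ D.q) with hq | hq | hq
  · exact (no_regular_two hsmall hq P hall ω₀).elim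
  · refine Or.inr ⟨hq, ?_⟩
    have e : P.orb ω₁ = Set.univ := Set.eq_univ_of_forall fun x => P.orb_unique hsmall hw (hall P x)
    rw [← Set.ncard_univ, ← e, P.card_orb, (P.whole_iff_card ω₁).mp hw, hq]
    rfl
  · exact (no_triv_large hsmall hq P hw hz).elim

/-! ### The lines -/

/-- the totally isotropic line of a frame -/
def lineSet (P : Fr D) : Set V := Set.range fun t : F × F => t.1 • P.e1 + t.2 • P.e2

theorem lineSet_ncard (P : Fr D) : (lineSet P).ncard = D.q ^ 4 := by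
  rw [lineSet, Set.ncard_range_of_injective fun t t' e => Prod.ext (P.line_inj e).1 (P.line_inj e).2,
    Nat.card_prod, Nat.card_eq_fintype_card, D.card_F]
  ring

theorem lineSet_smul (P : Fr D) (g : D.SUgrp) : g • lineSet P = lineSet (P.map g) := by
  ext x
  constructor
  · rintro ⟨_, ⟨t, rfl⟩, rfl⟩
    exact ⟨t, by simp [Fr.map, Subgroup.smul_def]⟩
  · rintro ⟨t, rfl⟩
    exact ⟨_, ⟨t, rfl⟩, by simp [Fr.map, Subgroup.smul_def]⟩

theorem lineSet_eq (P R : Fr D) (h1 : R.e1 ∈ lineSet P) (h2 : R.e2 ∈ lineSet P) : lineSet R = lineSet P := by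
  refine Set.eq_of_subset_of_ncard_le ?_ (by rw [lineSet_ncard, lineSet_ncard]) (Set.toFinite _)
  rintro _ ⟨t, rfl⟩
  obtain ⟨a, ha⟩ := h1
  obtain ⟨b, hb⟩ := h2
  refine ⟨(t.1 * a.1 + t.2 * b.1, t.1 * a.2 + t.2 * b.2), ?_⟩
  rw [← ha, ← hb]
  simp only
  module

theorem center_line (_P : Fr D) (z : D.SUgrp) (hz : z ∈ Subgroup.center D.SUgrp) {r r' : V}
    (hP : D.Pair (⊤ : Submodule F V) r r') : ∃ c : F, (z : V ≃ₗ[F] V) r = c • r := by
  obtain ⟨a, ha, ha0⟩ := D.exists_skew_ne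
  have hzr : D.h ((z : V ≃ₗ[F] V) r) ((z : V ≃ₗ[F] V) r) = 0 := by rw [z.2.1, hP.uu]
  have hcomm := congrArg Subtype.val (Subgroup.mem_center_iff.mp hz ⟨D.tau hP.uu ha, D.eEquiv_mem _⟩)
  simp only [Subgroup.coe_mul] at hcomm
  have e : D.tau hzr ha = D.tau hP.uu ha := by
    have h2 : (z : V ≃ₗ[F] V) * D.tau hP.uu ha = D.tau hzr ha * (z : V ≃ₗ[F] V) := by
      rw [HermData.tau, HermData.tau, D.conj_eEquiv z.2.1]
      exact congrArg (· * (z : V ≃ₗ[F] V)) (D.eEquiv_congr _ _ (map_zero _) rfl)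
    exact mul_right_cancel (h2.symm.trans hcomm.symm)
  have h3 := congrArg (fun g : V ≃ₗ[F] V => g r') e
  simp only [HermData.tau_apply, add_right_inj, hP.vu, mul_one] at h3
  set t := a * D.h r' ((z : V ≃ₗ[F] V) r)
  have ht0 : t ≠ 0 := by
    intro h0
    rw [h0, zero_smul, eq_comm, smul_eq_zero] at h3
    exact h3.elim ha0 (hP.ne_zero D)
  exact ⟨t⁻¹ * a, by rw [← smul_smul, ← h3, smul_smul, inv_mul_cancel₀ ht0, one_smul]⟩

/-- the stabiliser of a line -/
theorem exists_line_index (dim : Module.finrank F V = 4)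
    (hI : (D.normSet (⊤ : Submodule F V) 0).ncard = (D.q ^ 2 - 1) * (D.q ^ 2 + 1) * (D.q ^ 3 + 1)) :
    ∃ H : Subgroup D.SUgrp, H.index = (D.q + 1) * (D.q ^ 3 + 1) ∧ Subgroup.center D.SUgrp ≤ H := by
  classical
  have : Fintype V := Fintype.ofFinite V
  obtain ⟨P⟩ := exists_fr_default (D := D) dim
  refine ⟨MulAction.stabilizer D.SUgrp (lineSet P), ?_, ?_⟩
  swap
  · intro z hz
    obtain ⟨c1, hc1⟩ := center_line P z hz P.pair1
    obtain ⟨c2, hc2⟩ := center_line P z hz P.pair2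
    rw [MulAction.mem_stabilizer_iff, lineSet_smul]
    exact lineSet_eq P _ ⟨(c1, 0), by simp [Fr.map, hc1]⟩ ⟨(0, c2), by simp [Fr.map, hc2]⟩
  rw [MulAction.index_stabilizer]
  have horb : MulAction.orbit D.SUgrp (lineSet P) = Set.range fun R : Fr D => lineSet R := by
    ext L
    constructor
    · rintro ⟨g, rfl⟩
      exact ⟨P.map g, (lineSet_smul P g).symm⟩
    · rintro ⟨R, rfl⟩
      obtain ⟨g, c, hc, h1, h2⟩ := P.exists_trans R
      refine ⟨g, ?_⟩
      show g • lineSet P = lineSet R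
      rw [lineSet_smul]
      exact lineSet_eq R _ ⟨(1, 0), by simp [Fr.map, h1]⟩ ⟨(0, c), by simp [Fr.map, h2]⟩
  rw [horb]
  set O : Finset (Set V) := (Set.range fun R : Fr D => lineSet R).toFinset with hO
  set I : Finset V := Finset.univ.filter fun v => v ≠ 0 ∧ D.h v v = 0 with hIdef
  have hIc : I.card = (D.q ^ 2 - 1) * (D.q ^ 2 + 1) * (D.q ^ 3 + 1) := by
    rw [← hI, ← Set.ncard_coe_finset]
    congr 1
    ext v
    simp [hIdef, HermData.normSet]
  have h1 : ∀ L ∈ O, (Finset.bipartiteAbove (fun (L : Set V) (v : V) => v ∈ L) I L).card = D.q ^ 4 - 1 := by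
    intro L hL
    obtain ⟨R, rfl⟩ := Set.mem_toFinset.mp hL
    rw [← lineSet_ncard R, ← Set.ncard_sdiff_singleton_of_mem (s := lineSet R) (a := (0 : V)) ⟨(0, 0), by simp⟩,
      ← Set.ncard_coe_finset]
    congr 1
    ext v
    simp only [Finset.bipartiteAbove, hIdef, Finset.coe_filter, Finset.mem_filter, Finset.mem_univ, true_and,
      Set.mem_ofPred_eq, Set.mem_sdiff, Set.mem_singleton_iff]
    exact ⟨fun h => ⟨h.2, h.1.1⟩, fun ⟨⟨t, ht⟩, h0⟩ => ⟨⟨h0, ht ▸ R.iso_line t.1 t.2⟩, ⟨t, ht⟩⟩⟩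
  have h2 : ∀ v ∈ I, (Finset.bipartiteBelow (fun (L : Set V) (v : V) => v ∈ L) O v).card = D.q + 1 := by
    intro v hv
    simp only [hIdef, Finset.mem_filter, Finset.mem_univ, true_and] at hv
    obtain ⟨Q, hQ⟩ := exists_fr_one dim hv.2 hv.1
    subst hQ
    let z : Option D.skew → V := fun t => match t with
      | none => Q.f2
      | some t => Q.e2 + (t : F) • Q.f2
    have hz : ∀ t, D.h (z t) (z t) = 0 ∧ D.h Q.e1 (z t) = 0 ∧ ∀ c : F, z t ≠ c • Q.e1 := by
      rintro (_ | t)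
      · refine ⟨Q.f22, Q.ef12, fun c e => ?_⟩
        have := congrArg (fun v => D.h v Q.e2) e
        simp [z, D.smul_left] at this
      · refine ⟨?_, by simp [z, D.add_right, D.smul_right], fun c e => ?_⟩
        · simp [z, D.add_left, D.add_right, D.smul_left, D.smul_right, D.mem_skew.mp t.2]
        · have := congrArg (fun v => D.h v Q.f2) e
          simp [z, D.add_left, D.smul_left] at this
    choose R hR1 hR2 using fun t => exists_fr Q.dim Q.e11 (hz t).1 (hz t).2.1 Q.e1_ne (hz t).2.2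
    have hinj : Function.Injective fun t => lineSet (R t) := by
      intro t t' e
      have hm : z t' ∈ lineSet (R t) := by
        show z t' ∈ (fun t => lineSet (R t)) t
        rw [e]
        exact ⟨(0, 1), by simp [hR2]⟩
      obtain ⟨⟨a, b⟩, hab⟩ := hm
      simp only [hR1, hR2] at hab
      have c1 := congrArg (fun v => D.h v Q.e2) hab
      have c2 := congrArg (fun v => D.h v Q.f2) hab
      rcases t with _ | t <;> rcases t' with _ | t' <;>
        simp [z, D.add_left, D.smul_left] at c1 c2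
      · rfl
      · simp [c2] at c1
      · rw [c2, one_mul] at c1
        rw [Subtype.ext c1]
    have e : Finset.bipartiteBelow (fun (L : Set V) (v : V) => v ∈ L) O Q.e1 =
        (Finset.univ : Finset (Option D.skew)).image fun t => lineSet (R t) := by
      ext L
      simp only [Finset.bipartiteBelow, hO, Finset.mem_filter, Set.mem_toFinset, Set.mem_range,
        Finset.mem_image, Finset.mem_univ, true_and]
      constructor
      · rintro ⟨⟨S, rfl⟩, ⟨l, m⟩, hlm⟩
        simp only at hlm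
        -- a second vector of the line
        obtain ⟨w, hwS, hind⟩ : ∃ w ∈ lineSet S, ∀ c : F, w ≠ c • Q.e1 := by
          by_contra hcon
          push Not at hcon
          have hsub : lineSet S ⊆ Set.range fun c : F => c • Q.e1 := fun w hw => by
            obtain ⟨c, hc⟩ := hcon w hw; exact ⟨c, hc.symm⟩
          have h := (Set.ncard_le_ncard hsub (Set.toFinite _)).trans (Set.ncard_image_le (s := Set.univ) (f := fun c : F => c • Q.e1) |>.trans' (by rw [Set.image_univ]))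
          rw [lineSet_ncard, Set.ncard_univ, Nat.card_eq_fintype_card, D.card_F] at h
          have hlt : D.q ^ 2 < D.q ^ 4 := Nat.pow_lt_pow_right (by have := D.two_le; omega) (by omega)
          omega
        obtain ⟨⟨l', m'⟩, hw⟩ := hwS
        simp only at hw
        have hww : D.h w w = 0 := hw ▸ S.iso_line l' m'
        have hwv : D.h w Q.e1 = 0 := by
          rw [← hw, ← hlm]; simp [D.add_left, D.add_right, D.smul_left, D.smul_right]
        have hdec : w = D.h w Q.f1 • Q.e1 + (D.h w Q.f2 • Q.e2 + D.h w Q.e2 • Q.f2) := by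
          conv_lhs => rw [Q.decomp w, hwv]
          module
        set al := D.h w Q.f1
        set be := D.h w Q.f2
        set ga := D.h w Q.e2
        obtain ⟨t, r, hr⟩ : ∃ (t : Option D.skew) (r : F), w = al • Q.e1 + r • z t := by
          by_cases hbe : be = 0
          · exact ⟨none, ga, by rw [hdec, hbe]; simp [z]⟩
          · have ht : ga / be ∈ D.skew := by
              have hbe' : D.σ be ≠ 0 := (map_ne_zero D.σ).mpr hbe
              rw [hdec] at hww
              simp [D.add_left, D.add_right, D.smul_left, D.smul_right] at hww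
              rw [D.mem_skew, map_div₀]
              field_simp
              linear_combination hww
            exact ⟨some ⟨ga / be, ht⟩, be, by rw [hdec]; simp [z, smul_smul, mul_div_cancel₀ _ hbe]⟩
        have hr0 : r ≠ 0 := by
          intro h
          rw [h, zero_smul, add_zero] at hr
          exact hind al hr
        refine ⟨t, lineSet_eq S _ ⟨(l, m), by rw [hR1]; exact hlm⟩ ?_⟩
        refine ⟨((l' - al * l) / r, (m' - al * m) / r), ?_⟩
        rw [hR2]
        have hz' : z t = r⁻¹ • (w - al • Q.e1) := by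
          rw [hr, add_sub_cancel_left, inv_smul_smul₀ hr0]
        rw [hz', ← hw, ← hlm]
        simp only
        match_scalars <;> field_simp
      · rintro ⟨t, rfl⟩
        exact ⟨⟨R t, rfl⟩, ⟨(1, 0), by simp [hR1]⟩⟩
    rw [e, Finset.card_image_of_injective _ hinj, Finset.card_univ, ← Nat.card_eq_fintype_card,
      Finite.card_option, D.card_skew]
  have h := Finset.card_mul_eq_card_mul (fun (L : Set V) (v : V) => v ∈ L) h1 h2
  rw [hIc, hO, ← Set.ncard_eq_toFinset_card'] at h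
  have hq4 : D.q ^ 4 - 1 = (D.q ^ 2 - 1) * (D.q ^ 2 + 1) := by
    rw [mul_comm, ← Nat.sq_sub_sq, one_pow, ← pow_mul]
  rw [hq4] at h
  have hpos : 0 < (D.q ^ 2 - 1) * (D.q ^ 2 + 1) := by
    have : 2 ^ 2 ≤ D.q ^ 2 := Nat.pow_le_pow_left D.two_le 2
    exact Nat.mul_pos (by omega) (by omega)
  refine Nat.eq_of_mul_eq_mul_right hpos ?_
  rw [h]; ring

end CfsgLib.KnownSimple.UFour
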