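import Cfsg.Agent.Lib.KnownSimple.PSUFour.Frame
import Cfsg.Agent.Lib.KnownSimple.HeisenbergCount

set_option autoImplicit false
set_option linter.unusedSectionVars false
set_option linter.unusedSimpArgs false

/-!
Orbits of the unipotent group of a totally isotropic line: stabilisers, their annihilators and the
action of the normalising elements on the annihilators.
-/

namespace CfsgLib.KnownSimple.UFour

open CfsgLib.KnownSimple.Unitary CfsgLib.KnownSimple.HeisenbergCount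
open scoped Pointwise

attribute [local simp] HermData.neg_left HermData.neg_right

variable {F V : Type*} [Field F] [Fintype F] [AddCommGroup V] [Module F V] {D : HermData F V}

theorem exists_chi : ∃ χ : AddChar F ℂ, χ 1 ≠ 1 := by
  obtain ⟨χ, hχ⟩ := AddChar.exists_apply_ne_zero.mpr (one_ne_zero (α := F))
  exact ⟨χ, hχ⟩

/-- a fixed character, non-trivial at one -/
noncomputable def chi (F : Type*) [Field F] [Fintype F] : AddChar F ℂ := Classical.choose (exists_chi (F := F))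

theorem chi_one : chi F 1 ≠ 1 := Classical.choose_spec (exists_chi (F := F))

/-- the pairing of triples -/
def ph (D : HermData F V) (H M : F × F × F) : F :=
  H.1 * M.1 + H.2.2 * M.2.2 + (H.2.1 * M.2.1 + D.σ (H.2.1 * M.2.1))

theorem ph_comm (H M : F × F × F) : ph D H M = ph D M H := by simp [ph]; ring

theorem ph_add_left (H H' M : F × F × F) : ph D (H + H') M = ph D H M + ph D H' M := by
  simp [ph, add_mul]; ring

theorem ph_zero_left (M : F × F × F) : ph D 0 M = 0 := by simp [ph]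

theorem ph_smul_right {r : F} (hr : D.σ r = r) (H M : F × F × F) : ph D H (r • M) = r * ph D H M := by
  simp [ph, hr]; ring

theorem ph_real {H M : F × F × F} (hH : IsReal D H) (hM : IsReal D M) : D.σ (ph D H M) = ph D H M := by
  simp [ph, hH.1, hH.2, hM.1, hM.2]; ring

/-- the quadratic form on triples -/
def Qf (D : HermData F V) (H : F × F × F) : F := H.1 * H.2.2 - H.2.1 * D.σ H.2.1

theorem Qf_smul {r : F} (hr : D.σ r = r) (H : F × F × F) : Qf D (r • H) = r ^ 2 * Qf D H := by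
  simp [Qf, hr]; ring

/-- triples with first and last entry fixed, as a subgroup -/
def realT (D : HermData F V) : AddSubgroup (F × F × F) where
  carrier := {M | IsReal D M}
  zero_mem' := isReal_zero
  add_mem' := IsReal.add
  neg_mem' := IsReal.neg

theorem mem_realT {M : F × F × F} : M ∈ realT D ↔ IsReal D M := Iff.rfl

theorem card_realT : Nat.card (realT D) = D.q ^ 4 := by
  have e : Nat.card (realT D) = Nat.card ({a : F // D.σ a = a} × F × {a : F // D.σ a = a}) :=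
    Nat.card_congr ⟨fun M => (⟨M.1.1, M.2.1⟩, M.1.2.1, ⟨M.1.2.2, M.2.2⟩),
      fun t => ⟨(t.1.1, t.2.1, t.2.2.1), t.1.2, t.2.2.2⟩, fun _ => rfl, fun _ => rfl⟩
  rw [e, Nat.card_prod, Nat.card_prod, D.card_fixed, Nat.card_eq_fintype_card, D.card_F]
  ring

theorem exists_ph_one {H : F × F × F} (hH : IsReal D H) (h0 : H ≠ 0) :
    ∃ M, IsReal D M ∧ ph D H M = 1 := by
  by_cases h1 : H.1 = 0
  · by_cases h3 : H.2.2 = 0
    · have h2 : H.2.1 ≠ 0 := fun h2 => h0 (Prod.ext h1 (Prod.ext h2 h3))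
      obtain ⟨e, he⟩ := D.exists_trace_one
      refine ⟨(0, e / H.2.1, 0), isReal_mk (map_zero _) (map_zero _), ?_⟩
      simp [ph, mul_div_cancel₀ _ h2]
      linear_combination he
    · refine ⟨(0, 0, H.2.2⁻¹), isReal_mk (map_zero _) (by simp [hH.2]), ?_⟩
      simp [ph, h3]
  · refine ⟨(H.1⁻¹, 0, 0), isReal_mk (by simp [hH.1]) (map_zero _), ?_⟩
    simp [ph, h1]

/-- annihilator of a set of triples -/
noncomputable def ann (D : HermData F V) (S : AddSubgroup (F × F × F)) : AddSubgroup (F × F × F) where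
  carrier := {H | IsReal D H ∧ ∀ M ∈ S, chi F (ph D H M) = 1}
  zero_mem' := ⟨isReal_zero, fun M _ => by simp [ph_zero_left]⟩
  add_mem' := by
    intro a b ha hb
    exact ⟨ha.1.add hb.1, fun M hM => by rw [ph_add_left, AddChar.map_add_eq_mul, ha.2 M hM, hb.2 M hM, mul_one]⟩
  neg_mem' := by
    intro a ha
    refine ⟨ha.1.neg, fun M hM => ?_⟩
    have : ph D (-a) M = -ph D a M := by simp [ph]; ring
    rw [this, AddChar.map_neg_eq_inv, ha.2 M hM, inv_one]

theorem mem_ann {S : AddSubgroup (F × F × F)} {H : F × F × F} :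
    H ∈ ann D S ↔ IsReal D H ∧ ∀ M ∈ S, chi F (ph D H M) = 1 := Iff.rfl

theorem ann_le (S : AddSubgroup (F × F × F)) : ann D S ≤ realT D := fun _ h => h.1

/-- the character of a triple -/
noncomputable def psi (H : realT D) : AddChar (realT D) ℂ :=
  (chi F).compAddMonoidHom (AddMonoidHom.mk' (fun M : realT D => ph D (H : F × F × F) M)
    (fun M N => by rw [ph_comm, AddSubgroup.coe_add, ph_add_left, ph_comm, ph_comm (N : F × F × F)]))

theorem psi_apply (H M : realT D) : psi H M = chi F (ph D (H : F × F × F) M) := rfl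

theorem psi_bijective : Function.Bijective (psi (D := D)) := by
  have hinj : Function.Injective (psi (D := D)) := by
    intro H H' h
    by_contra hne
    have hreal : IsReal D ((H : F × F × F) - H') := (realT D).sub_mem H.2 H'.2
    obtain ⟨M, hM, h1⟩ := exists_ph_one hreal (sub_ne_zero.mpr fun e => hne (Subtype.ext e))
    have e := congrArg (fun ψ => ψ (⟨M, hM⟩ : realT D)) h
    simp only [psi_apply] at e
    have h2 : ph D (H : F × F × F) M = 1 + ph D (H' : F × F × F) M := by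
      rw [← h1, ← ph_add_left, sub_add_cancel]
    rw [h2, AddChar.map_add_eq_mul] at e
    exact chi_one ((mul_eq_right₀ (AddChar.val_isUnit _ _).ne_zero).mp e)
  have := Fintype.ofFinite (realT D)
  exact (Fintype.bijective_iff_injective_and_card _).mpr ⟨hinj, AddChar.card_eq.symm⟩

theorem card_ann {S : AddSubgroup (F × F × F)} (hS : S ≤ realT D) :
    Nat.card (ann D S) * Nat.card S = D.q ^ 4 := by
  have e1 : Nat.card S = Nat.card (S.addSubgroupOf (realT D)) :=
    (Nat.card_congr (AddSubgroup.addSubgroupOfEquivOfLe hS).toEquiv).symm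
  rw [← card_realT (D := D), ← card_triv_mul (S.addSubgroupOf (realT D)), e1]
  congr 1
  refine Nat.card_congr ?_
  refine Equiv.trans ?_ ((Equiv.ofBijective _ (psi_bijective (D := D))).subtypeEquiv
    (p := fun H : realT D => (H : F × F × F) ∈ ann D S) fun H => ?_)
  · exact ⟨fun H => ⟨⟨H.1, H.2.1⟩, H.2⟩, fun H => ⟨H.1.1, H.2⟩, fun _ => rfl, fun _ => rfl⟩
  · exact ⟨fun h M hM => h.2 _ hM, fun h => ⟨H.2, fun M hM => h ⟨M, hS hM⟩ hM⟩⟩

theorem ann_ann {S : AddSubgroup (F × F × F)} (hS : S ≤ realT D) : ann D (ann D S) = S := by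
  have hle : S ≤ ann D (ann D S) := fun M hM => ⟨hS hM, fun H hH => by rw [ph_comm]; exact hH.2 M hM⟩
  have h1 := card_ann (D := D) (ann_le S)
  have h2 := card_ann hS
  have heq : Nat.card S = Nat.card (ann D (ann D S)) := by
    apply Nat.eq_of_mul_eq_mul_left (Nat.card_pos (α := ann D S))
    rw [h2, mul_comm, h1]
  exact (SetLike.coe_injective (Set.eq_of_subset_of_ncard_le hle
    (by rw [← Nat.card_coe_set_eq, ← Nat.card_coe_set_eq]; exact heq.ge) (Set.toFinite _))).symm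

variable [FiniteDimensional F V] {Ω : Type*} [MulAction D.SUgrp Ω]

namespace Fr

variable (P : Fr D)

/-- stabiliser of a point -/
noncomputable def stab (ω : Ω) : AddSubgroup (F × F × F) where
  carrier := {M | IsReal D M ∧ P.gA M • ω = ω}
  zero_mem' := ⟨isReal_zero, by rw [P.gA_zero, one_smul]⟩
  add_mem' := by
    intro a b ha hb
    exact ⟨ha.1.add hb.1, by rw [P.gA_add ha.1 hb.1, mul_smul, hb.2, ha.2]⟩
  neg_mem' := by
    intro a ha
    refine ⟨ha.1.neg, ?_⟩
    conv_lhs => rw [← ha.2]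
    rw [← mul_smul, ← P.gA_add ha.1.neg ha.1, neg_add_cancel, P.gA_zero, one_smul]

theorem mem_stab {ω : Ω} {M : F × F × F} : M ∈ P.stab ω ↔ IsReal D M ∧ P.gA M • ω = ω := Iff.rfl

theorem stab_le (ω : Ω) : P.stab ω ≤ realT D := fun _ h => h.1

/-- annihilator of the stabiliser -/
noncomputable def del (ω : Ω) : AddSubgroup (F × F × F) := ann D (P.stab ω)

theorem del_real {ω : Ω} {H : F × F × F} (h : H ∈ P.del ω) : IsReal D H := h.1

theorem fix_iff {ω : Ω} {M : F × F × F} (hM : IsReal D M) :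
    P.gA M • ω = ω ↔ ∀ H ∈ P.del ω, chi F (ph D H M) = 1 := by
  constructor
  · exact fun h H hH => hH.2 M ⟨hM, h⟩
  · intro h
    have : M ∈ ann D (ann D (P.stab ω)) := ⟨hM, fun H hH => by rw [ph_comm]; exact h H hH⟩
    rw [ann_ann (P.stab_le ω)] at this
    exact this.2

/-- the orbit -/
def orb (ω : Ω) : Set Ω := {x | ∃ M, IsReal D M ∧ P.gA M • ω = x}

theorem orb_self (ω : Ω) : ω ∈ P.orb ω := ⟨0, isReal_zero, by rw [P.gA_zero, one_smul]⟩

theorem gA_comm {M N : F × F × F} (hM : IsReal D M) (hN : IsReal D N) :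
    P.gA M * P.gA N = P.gA N * P.gA M := by rw [← P.gA_add hM hN, add_comm, P.gA_add hN hM]

theorem stab_orb {x ω : Ω} (h : x ∈ P.orb ω) : P.stab x = P.stab ω := by
  obtain ⟨N, hN, rfl⟩ := h
  ext M
  rw [mem_stab, mem_stab]
  refine and_congr_right fun hM => ?_
  rw [← mul_smul, P.gA_comm hM hN, mul_smul]
  exact ⟨fun h => MulAction.injective _ h, fun h => by rw [h]⟩

theorem del_orb {x ω : Ω} (h : x ∈ P.orb ω) : P.del x = P.del ω := by rw [del, del, P.stab_orb h]

theorem orb_eq {x ω : Ω} (h : x ∈ P.orb ω) : P.orb x = P.orb ω := by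
  obtain ⟨N, hN, rfl⟩ := h
  ext y
  constructor
  · rintro ⟨M, hM, rfl⟩
    exact ⟨M + N, hM.add hN, by rw [P.gA_add hM hN, mul_smul]⟩
  · rintro ⟨M, hM, rfl⟩
    refine ⟨M + -N, hM.add hN.neg, ?_⟩
    rw [← mul_smul, ← P.gA_add (hM.add hN.neg) hN, neg_add_cancel_right]

theorem card_orb [Finite Ω] (ω : Ω) : (P.orb ω).ncard = Nat.card (P.del ω) := by
  have h := addAct_card (A := realT D) (fun M x => P.gA (M : F × F × F) • x)
    (fun x => by simp [P.gA_zero])
    (fun a b x => by simp [P.gA_add a.2 b.2, mul_smul]) ω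
  have e1 : (Set.range fun M : realT D => P.gA (M : F × F × F) • ω) = P.orb ω := by
    ext x
    exact ⟨fun ⟨M, h⟩ => ⟨M, M.2, h⟩, fun ⟨M, hM, h⟩ => ⟨⟨M, hM⟩, h⟩⟩
  have e2 : Nat.card {M : realT D // P.gA (M : F × F × F) • ω = ω} = Nat.card (P.stab ω) :=
    Nat.card_congr ⟨fun M => ⟨M.1.1, M.1.2, M.2⟩, fun M => ⟨⟨M.1, M.2.1⟩, M.2.2⟩, fun _ => rfl, fun _ => rfl⟩
  rw [e1, e2, card_realT, ← card_ann (P.stab_le ω)] at h
  exact Nat.eq_of_mul_eq_mul_right Nat.card_pos h

/-- moving orbits and annihilators by an element carrying one line to another -/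
theorem moved (P' : Fr D) (g : D.SUgrp) (π π' : F × F × F → F × F × F)
    (hπ : ∀ M, IsReal D M → IsReal D (π M) ∧ g * P.gA M = P'.gA (π M) * g)
    (hπ' : ∀ M, IsReal D M → IsReal D (π' M) ∧ π (π' M) = M)
    (ρ : (F × F × F) ≃+ (F × F × F)) (hρr : ∀ H, IsReal D (ρ H) ↔ IsReal D H)
    (hρ : ∀ H M, IsReal D H → IsReal D M → ph D (ρ H) (π M) = ph D H M) (ω : Ω) :
    (∀ H, H ∈ P.del ω ↔ ρ H ∈ P'.del (g • ω)) ∧ g • P.orb ω = P'.orb (g • ω) := by
  have hstab : ∀ M, IsReal D M → (π M ∈ P'.stab (g • ω) ↔ M ∈ P.stab ω) := by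
    intro M hM
    rw [mem_stab, mem_stab, and_iff_right (hπ M hM).1, and_iff_right hM, ← mul_smul, ← (hπ M hM).2, mul_smul]
    exact ⟨fun h => MulAction.injective _ h, fun h => by rw [h]⟩
  refine ⟨fun H => ?_, ?_⟩
  · constructor
    · intro hH
      refine ⟨(hρr H).mpr hH.1, fun M hM => ?_⟩
      obtain ⟨hr, he⟩ := hπ' M hM.1
      rw [← he] at hM ⊢
      rw [hρ H _ hH.1 hr]
      exact hH.2 _ ((hstab _ hr).mp hM)
    · intro hH
      refine ⟨(hρr H).mp hH.1, fun M hM => ?_⟩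
      rw [← hρ H M ((hρr H).mp hH.1) hM.1]
      exact hH.2 _ ((hstab M hM.1).mpr hM)
  · ext x
    constructor
    · rintro ⟨_, ⟨M, hM, rfl⟩, rfl⟩
      exact ⟨π M, (hπ M hM).1, by rw [← mul_smul, ← (hπ M hM).2, mul_smul]⟩
    · rintro ⟨M, hM, rfl⟩
      obtain ⟨hr, he⟩ := hπ' M hM
      refine ⟨_, ⟨π' M, hr, rfl⟩, ?_⟩
      show g • P.gA (π' M) • ω = _
      rw [← mul_smul, (hπ _ hr).2, he, mul_smul]

variable (Ω) in
/-- an element normalising the group, with its effect on annihilators -/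
structure Lev (g : D.SUgrp) (ρ : (F × F × F) ≃+ (F × F × F)) : Prop where
  real : ∀ H, IsReal D (ρ H) ↔ IsReal D H
  homog : ∀ r : F, D.σ r = r → ∀ H, ρ (r • H) = r • ρ H
  quad : ∃ r : F, D.σ r = r ∧ r ≠ 0 ∧ ∀ H, IsReal D H → Qf D (ρ H) = r ^ 2 * Qf D H
  mem : ∀ (ω : Ω) H, H ∈ P.del ω ↔ ρ H ∈ P.del (g • ω)
  orbit : ∀ ω : Ω, g • P.orb ω = P.orb (g • ω)

theorem Lev.trans {g g' : D.SUgrp} {ρ ρ' : (F × F × F) ≃+ (F × F × F)} (h : P.Lev Ω g ρ)
    (h' : P.Lev Ω g' ρ') : P.Lev Ω (g' * g) (ρ.trans ρ') where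
  real H := by rw [AddEquiv.trans_apply, h'.real, h.real]
  homog r hr H := by simp [AddEquiv.trans_apply, h.homog r hr, h'.homog r hr]
  quad := by
    obtain ⟨r, hr, hr0, hq⟩ := h.quad
    obtain ⟨r', hr', hr0', hq'⟩ := h'.quad
    refine ⟨r' * r, by rw [map_mul, hr', hr], mul_ne_zero hr0' hr0, fun H hH => ?_⟩
    rw [AddEquiv.trans_apply, hq' _ ((h.real H).mpr hH), hq H hH]; ring
  mem ω H := by rw [AddEquiv.trans_apply, mul_smul, ← h'.mem, ← h.mem]
  orbit ω := by rw [mul_smul, mul_smul, h.orbit, h'.orbit]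

theorem Lev.symm {g : D.SUgrp} {ρ : (F × F × F) ≃+ (F × F × F)} (h : P.Lev Ω g ρ) :
    P.Lev Ω g⁻¹ ρ.symm where
  real H := by rw [← h.real (ρ.symm H), AddEquiv.apply_symm_apply]
  homog r hr H := by
    apply ρ.injective
    rw [AddEquiv.apply_symm_apply, h.homog r hr, AddEquiv.apply_symm_apply]
  quad := by
    obtain ⟨r, hr, hr0, hq⟩ := h.quad
    refine ⟨r⁻¹, by rw [map_inv₀, hr], inv_ne_zero hr0, fun H hH => ?_⟩
    have hH' : IsReal D (ρ.symm H) := by rw [← h.real, AddEquiv.apply_symm_apply]; exact hH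
    have e := hq _ hH'
    rw [AddEquiv.apply_symm_apply] at e
    rw [e]; field_simp
  mem ω H := by
    have := h.mem (g⁻¹ • ω) (ρ.symm H)
    rwa [smul_inv_smul, AddEquiv.apply_symm_apply, Iff.comm] at this
  orbit ω := by
    rw [inv_smul_eq_iff, h.orbit, smul_inv_smul]

theorem Lev.refl : P.Lev Ω 1 (AddEquiv.refl _) where
  real _ := Iff.rfl
  homog _ _ _ := rfl
  quad := ⟨1, map_one _, one_ne_zero, fun H _ => by simp⟩
  mem ω H := by simp
  orbit ω := by simp

theorem Lev.card_del {g : D.SUgrp} {ρ : (F × F × F) ≃+ (F × F × F)} (h : P.Lev Ω g ρ) (ω : Ω) :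
    Nat.card (P.del (g • ω)) = Nat.card (P.del ω) :=
  (Nat.card_congr (ρ.toEquiv.subtypeEquiv fun H => h.mem ω H)).symm

/-- exchange of the coordinates -/
def swapT (D : HermData F V) : (F × F × F) ≃+ (F × F × F) where
  toFun H := (H.2.2, D.σ H.2.1, H.1)
  invFun H := (H.2.2, D.σ H.2.1, H.1)
  left_inv H := by simp
  right_inv H := by simp
  map_add' H H' := by simp

theorem swapT_apply (H : F × F × F) : swapT D H = (H.2.2, D.σ H.2.1, H.1) := rfl

@[simp] theorem swapT_swapT (H : F × F × F) : swapT D (swapT D H) = H := by simp [swapT_apply]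

theorem swapT_real (H : F × F × F) : IsReal D (swapT D H) ↔ IsReal D H :=
  ⟨fun h => ⟨h.2, h.1⟩, fun h => ⟨h.2, h.1⟩⟩

theorem swap_moved (ω : Ω) :
    (∀ H, H ∈ P.swap.del ω ↔ swapT D H ∈ P.del ω) ∧ P.swap.orb ω = P.orb ω := by
  have h := P.swap.moved P 1 (swapT D) (swapT D)
    (fun M hM => ⟨(swapT_real M).mpr hM, by rw [one_mul, mul_one, P.conj_swap hM]; rfl⟩)
    (fun M hM => ⟨(swapT_real M).mpr hM, swapT_swapT M⟩) (swapT D) swapT_real
    (fun H M _ _ => by simp [ph, swapT_apply]; ring) ω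
  simpa using h

theorem swap_del (ω : Ω) (H : F × F × F) : H ∈ P.swap.del ω ↔ swapT D H ∈ P.del ω := (P.swap_moved ω).1 H

theorem swap_orb (ω : Ω) : P.swap.orb ω = P.orb ω := (P.swap_moved ω).2

theorem Lev.of_swap {g : D.SUgrp} {ρ : (F × F × F) ≃+ (F × F × F)} (h : P.swap.Lev Ω g ρ) :
    P.Lev Ω g (((swapT D).trans ρ).trans (swapT D)) where
  real H := by rw [AddEquiv.trans_apply, AddEquiv.trans_apply, swapT_real, h.real, swapT_real]
  homog r hr H := by
    have e : ∀ H, swapT D (r • H) = r • swapT D H := fun H => by simp [swapT_apply, hr]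
    simp [AddEquiv.trans_apply, e, h.homog r hr]
  quad := by
    obtain ⟨r, hr, hr0, hq⟩ := h.quad
    have e : ∀ H, Qf D (swapT D H) = Qf D H := fun H => by simp [Qf, swapT_apply]; ring
    exact ⟨r, hr, hr0, fun H hH => by
      rw [AddEquiv.trans_apply, AddEquiv.trans_apply, e, hq _ ((swapT_real H).mpr hH), e]⟩
  mem ω H := by
    rw [AddEquiv.trans_apply, AddEquiv.trans_apply, ← P.swap_del, ← h.mem, P.swap_del, swapT_swapT]
  orbit ω := by rw [← P.swap_orb, h.orbit, P.swap_orb]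

/-- dual action of the shear -/
def uT (D : HermData F V) (y : F) : (F × F × F) ≃+ (F × F × F) where
  toFun H := (H.1, H.2.1 - H.1 * D.σ y,
    H.2.2 + H.1 * (y * D.σ y) - (y * H.2.1 + D.σ (y * H.2.1)))
  invFun H := (H.1, H.2.1 + H.1 * D.σ y,
    H.2.2 - H.1 * (y * D.σ y) + (y * (H.2.1 + H.1 * D.σ y) + D.σ (y * (H.2.1 + H.1 * D.σ y))))
  left_inv H := by refine Prod.ext rfl (Prod.ext ?_ ?_) <;> simp <;> ring
  right_inv H := by refine Prod.ext rfl (Prod.ext ?_ ?_) <;> simp <;> ring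
  map_add' H H' := by refine Prod.ext rfl (Prod.ext ?_ ?_) <;> simp <;> ring

theorem uT_apply (y : F) (H : F × F × F) : uT D y H =
    (H.1, H.2.1 - H.1 * D.σ y, H.2.2 + H.1 * (y * D.σ y) - (y * H.2.1 + D.σ (y * H.2.1))) := rfl

theorem u_lev (y : F) : P.Lev Ω (P.u y) (uT D y) := by
  have hreal : ∀ H, IsReal D (uT D y H) ↔ IsReal D H := by
    intro H
    rw [uT_apply]
    constructor
    · rintro ⟨h1, h2⟩
      refine ⟨h1, ?_⟩
      simp only [map_sub, map_add, map_mul, D.σσ, show D.σ H.1 = H.1 from h1] at h2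
      linear_combination h2
    · rintro ⟨h1, h2⟩
      refine ⟨h1, ?_⟩
      simp only [map_sub, map_add, map_mul, D.σσ, h1, h2]
      ring
  let π : F → F × F × F → F × F × F := fun z M =>
    (M.1 + (M.2.1 * D.σ z + D.σ M.2.1 * z) + M.2.2 * (z * D.σ z), M.2.1 + z * M.2.2, M.2.2)
  have hπr : ∀ z M, IsReal D M → IsReal D (π z M) := fun z M hM =>
    isReal_mk (by simp [hM.1, hM.2]; ring) hM.2
  have key := fun ω : Ω => P.moved P (P.u y) (π y) (π (-y))
    (fun M hM => ⟨hπr y M hM, P.conj_shear (P.u y) (P.u_e1 y) (P.u_e2 y) hM⟩)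
    (fun M hM => ⟨hπr (-y) M hM, by
      refine Prod.ext ?_ (Prod.ext ?_ rfl) <;> simp [π, hM.2] <;> ring⟩)
    (uT D y) hreal
    (fun H M hH hM => by simp [ph, π, uT_apply, hH.1, hH.2, hM.1, hM.2]; ring) ω
  refine ⟨hreal, fun r hr H => ?_, ⟨1, map_one _, one_ne_zero, fun H hH => ?_⟩,
    fun ω => (key ω).1, fun ω => (key ω).2⟩
  · refine Prod.ext rfl (Prod.ext ?_ ?_) <;> simp [uT_apply, hr] <;> ring
  · simp [Qf, uT_apply, hH.1]; ring

/-- dual action of the opposite shear -/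
def lT (D : HermData F V) (y : F) : (F × F × F) ≃+ (F × F × F) :=
  ((swapT D).trans (uT D y)).trans (swapT D)

theorem lT_apply (y : F) (H : F × F × F) : lT D y H =
    (H.1 + H.2.2 * (y * D.σ y) - (y * D.σ H.2.1 + D.σ (y * D.σ H.2.1)), H.2.1 - D.σ H.2.2 * y, H.2.2) := by
  simp [lT, uT_apply, swapT_apply]

theorem l_lev (y : F) : P.Lev Ω (P.swap.u y) (lT D y) := Lev.of_swap P (P.swap.u_lev y)

/-- dual action of the torus -/
def dT (c1 c2 : F) (h1 : c1 ≠ 0) (h2 : c2 ≠ 0) : (F × F × F) ≃+ (F × F × F) where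
  toFun H := (H.1 / (c1 * c1), H.2.1 / (c1 * c2), H.2.2 / (c2 * c2))
  invFun H := (H.1 * (c1 * c1), H.2.1 * (c1 * c2), H.2.2 * (c2 * c2))
  left_inv H := by simp [h1, h2]
  right_inv H := by simp [h1, h2]
  map_add' H H' := by simp [add_div]

theorem d_lev {c1 c2 : F} (h1 : D.σ c1 = c1) (h2 : D.σ c2 = c2) (h10 : c1 ≠ 0) (h20 : c2 ≠ 0) :
    ∃ g, P.Lev Ω g (dT c1 c2 h10 h20) := by
  obtain ⟨g, he1, he2, -, -⟩ := P.exists_dg h1 h2 h10 h20
  refine ⟨g, ?_⟩
  have hreal : ∀ H, IsReal D (dT c1 c2 h10 h20 H) ↔ IsReal D H := by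
    intro H
    simp [IsReal, dT, h1, h2, h10, h20]
  let π : F × F × F → F × F × F := fun M => (M.1 * (c1 * c1), M.2.1 * (c1 * c2), M.2.2 * (c2 * c2))
  have key := fun ω : Ω => P.moved P g π (fun M => dT c1 c2 h10 h20 M)
    (fun M hM => ⟨isReal_mk (by simp [hM.1, h1]) (by simp [hM.2, h2]), by
      rw [P.conj_diag P g he1 he2 hM]; simp [π, h1, h2]⟩)
    (fun M hM => ⟨(hreal M).mpr hM, by simp [π, dT, h10, h20]⟩)
    (dT c1 c2 h10 h20) hreal
    (fun H M _ _ => by
      simp [ph, π, dT, h1, h2]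
      field_simp) ω
  refine ⟨hreal, fun r hr H => ?_, ⟨1 / (c1 * c2), by simp [h1, h2], by simp [h10, h20], fun H hH => ?_⟩,
    fun ω => (key ω).1, fun ω => (key ω).2⟩
  · simp [dT, mul_div_assoc]
  · simp [Qf, dT, h1, h2]
    field_simp

theorem trans_moved (P' : Fr D) : ∃ g : D.SUgrp, ∃ ρ : (F × F × F) ≃+ (F × F × F),
    (∀ H, IsReal D H → (Qf D H = 0 → Qf D (ρ H) = 0)) ∧
    ∀ ω : Ω, (∀ H, H ∈ P.del ω ↔ ρ H ∈ P'.del (g • ω)) ∧ g • P.orb ω = P'.orb (g • ω) := by
  obtain ⟨g, c, hc, he1, he2⟩ := P.exists_trans P'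
  have hc' : D.σ c ≠ 0 := (map_ne_zero D.σ).mpr hc
  let ρ : (F × F × F) ≃+ (F × F × F) :=
    { toFun := fun H => (H.1, H.2.1 / D.σ c, H.2.2 / (c * D.σ c))
      invFun := fun H => (H.1, H.2.1 * D.σ c, H.2.2 * (c * D.σ c))
      left_inv := fun H => by simp [hc, hc']
      right_inv := fun H => by simp [hc, hc']
      map_add' := fun H H' => by simp [add_div] }
  have hr : ∀ H, IsReal D (ρ H) ↔ IsReal D H := fun H => by
    simp [IsReal, ρ, mul_comm (D.σ c) c, hc, hc']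
  refine ⟨g, ρ, fun H hH h0 => ?_, fun ω => P.moved P' g (fun M => (M.1, M.2.1 * D.σ c, M.2.2 * (c * D.σ c)))
    (fun M => ρ M) (fun M hM => ⟨isReal_mk hM.1 (by simp [hM.2, mul_comm]), ?_⟩)
    (fun M hM => ⟨(hr M).mpr hM, by simp [ρ, hc, hc']⟩) ρ hr ?_ ω⟩
  · simp only [Qf] at h0
    simp [Qf, ρ]
    field_simp
    linear_combination h0
  · rw [P.conj_diag P' g (α := 1) (δ := c) (by rw [one_smul, he1]) he2 hM]
    simp
  · intro H M _ _
    simp [ph, ρ]
    field_simp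

end Fr

/-! ### Points fixed by their transvections -/

/-- a transvection as a group element -/
noncomputable def tauG {v : V} (hv : D.h v v = 0) {a : F} (ha : D.σ a = -a) : D.SUgrp :=
  ⟨D.tau hv ha, D.eEquiv_mem _⟩

variable (D) in
/-- the transvection group of the vector fixes the point -/
def InS (ω : Ω) (v : V) : Prop := D.h v v = 0 ∧ ∀ (hv : D.h v v = 0) (a : F) (ha : D.σ a = -a), tauG hv ha • ω = ω

theorem tauG_congr {v w : V} (hv : D.h v v = 0) (hw : D.h w w = 0) {a b : F} (ha : D.σ a = -a)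
    (hb : D.σ b = -b) (e : ∀ x, (a * D.h x v) • v = (b * D.h x w) • w) : tauG hv ha = tauG hw hb :=
  Subtype.ext (LinearEquiv.ext fun x => by
    show D.tau hv ha x = D.tau hw hb x
    rw [HermData.tau_apply, HermData.tau_apply, e x])

theorem InS.smul {ω : Ω} {v : V} (h : InS D ω v) (c : F) : InS D ω (c • v) := by
  refine ⟨by rw [D.smul_left, D.smul_right, h.1, mul_zero, mul_zero], fun hv a ha => ?_⟩
  rw [tauG_congr hv h.1 ha (b := a * (c * D.σ c)) (by rw [map_mul, map_mul, ha, D.σσ]; ring) fun x => by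
    rw [D.smul_right, smul_smul]; congr 1; ring]
  exact h.2 h.1 _ _

theorem InS.map {ω : Ω} {v : V} (h : InS D ω v) {g : D.SUgrp} (hg : g • ω = ω) :
    InS D ω ((g : V ≃ₗ[F] V) v) := by
  refine ⟨by rw [g.2.1]; exact h.1, fun hv a ha => ?_⟩
  have e : g * tauG h.1 ha = tauG hv ha * g := by
    apply Subtype.ext
    refine LinearEquiv.ext fun x => ?_
    show (g : V ≃ₗ[F] V) (D.tau h.1 ha x) = D.tau hv ha ((g : V ≃ₗ[F] V) x)
    rw [HermData.tau_apply, HermData.tau_apply, map_add, map_smul, g.2.1]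
  calc tauG hv ha • ω = tauG hv ha • g • ω := by rw [hg]
    _ = g • tauG h.1 ha • ω := by rw [← mul_smul, ← mul_smul, e]
    _ = ω := by rw [h.2 h.1 a ha, hg]

/-- the Hermitian form attached to a triple -/
def hf (D : HermData F V) (H : F × F × F) (lam mu : F) : F :=
  H.1 * (lam * D.σ lam) + H.2.2 * (mu * D.σ mu) + (H.2.1 * (lam * D.σ mu) + D.σ (H.2.1 * (lam * D.σ mu)))

theorem Fr.inS_iff (P : Fr D) (ω : Ω) (lam mu : F) :
    InS D ω (lam • P.e1 + mu • P.e2) ↔ ∀ H ∈ P.del ω, hf D H lam mu = 0 := by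
  have hph : ∀ (r : F) (H : F × F × F), D.σ r = r →
      ph D H (Fr.tTri (D := D) r lam mu) = r * hf D H lam mu := fun r H hr => by
    simp [ph, hf, Fr.tTri, hr]; ring
  constructor
  · intro h H hH
    by_contra hne
    have hreal : D.σ (hf D H lam mu) = hf D H lam mu := by
      simp [hf, hH.1.1, hH.1.2]; ring
    have hr : D.σ (hf D H lam mu)⁻¹ = (hf D H lam mu)⁻¹ := by rw [map_inv₀, hreal]
    have hfix : P.gA (Fr.tTri (D := D) (hf D H lam mu)⁻¹ lam mu) • ω = ω := by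
      rw [P.gA_tTri hr]; exact h.2 _ _ _
    have h1 := (P.fix_iff (Fr.tTri_real hr lam mu)).mp hfix H hH
    rw [hph _ _ hr, inv_mul_cancel₀ hne] at h1
    exact chi_one h1
  · intro h
    refine ⟨P.iso_line lam mu, fun hv a ha => ?_⟩
    have hr : D.σ (a * sk D) = a * sk D := by simp [ha, sk_skew]
    have e : tauG hv ha = P.gA (Fr.tTri (D := D) (a * sk D) lam mu) := by
      rw [P.gA_tTri hr]
      exact tauG_congr hv _ _ _ fun x => by rw [mul_div_cancel_right₀ _ (sk_ne (D := D))]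
    rw [e]
    refine (P.fix_iff (Fr.tTri_real hr lam mu)).mpr fun H hH => ?_
    rw [hph _ _ hr, h H hH, mul_zero, AddChar.map_zero_eq_one]

theorem Fr.inS_e1 (P : Fr D) (ω : Ω) : InS D ω P.e1 ↔ ∀ H ∈ P.del ω, H.1 = 0 := by
  have e : P.e1 = (1 : F) • P.e1 + (0 : F) • P.e2 := by simp
  rw [e, P.inS_iff]
  simp [hf]

theorem Fr.inS_e2 (P : Fr D) (ω : Ω) : InS D ω P.e2 ↔ ∀ H ∈ P.del ω, H.2.2 = 0 := by
  have e : P.e2 = (0 : F) • P.e1 + (1 : F) • P.e2 := by simp
  rw [e, P.inS_iff]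
  simp [hf]

end CfsgLib.KnownSimple.UFour
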