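import Cfsg.Agent.Lib.KnownSimple.PSUFour.Shape

set_option autoImplicit false
set_option linter.unusedSectionVars false
set_option linter.unusedSimpArgs false
set_option linter.unnecessarySeqFocus false

/-!
A point at which no totally isotropic line has the full annihilator is fixed by all transvections.
-/

namespace CfsgLib.KnownSimple.UFour

open CfsgLib.KnownSimple.Unitary
open scoped Pointwise

attribute [local simp] HermData.neg_left HermData.neg_right

variable {F V : Type*} [Field F] [Fintype F] [AddCommGroup V] [Module F V] {D : HermData F V}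
  [FiniteDimensional F V] [Finite V]

theorem exists_fr_one (dim : Module.finrank F V = 4) {x : V} (hx : D.h x x = 0) (hx0 : x ≠ 0) :
    ∃ P : Fr D, P.e1 = x := by
  obtain ⟨x', hP⟩ := D.exists_partner D.nondeg_top (Submodule.mem_top (x := x)) hx0 hx
  have h2 := D.finrank_cutPair hP
  rw [finrank_top, dim] at h2
  obtain ⟨u, u', hu⟩ := D.exists_pair (D.nondeg_cutPair D.nondeg_top hP) (by omega)
  obtain ⟨-, h1, h3⟩ := D.mem_cutPair.mp hu.mu
  obtain ⟨P, hP1, -⟩ := exists_fr dim hx hu.uu (D.eq_zero_comm h1) hx0 fun c e => by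
    rw [e, D.smul_left, hP.uv, mul_one] at h3
    exact hu.ne_zero D (by rw [e, h3, zero_smul])
  exact ⟨P, hP1⟩

/-- image of a frame -/
def Fr.map (P : Fr D) (g : D.SUgrp) : Fr D where
  e1 := (g : V ≃ₗ[F] V) P.e1
  e2 := (g : V ≃ₗ[F] V) P.e2
  f1 := (g : V ≃ₗ[F] V) P.f1
  f2 := (g : V ≃ₗ[F] V) P.f2
  e11 := by rw [g.2.1, P.e11]
  e22 := by rw [g.2.1, P.e22]
  e12 := by rw [g.2.1, P.e12]
  f11 := by rw [g.2.1, P.f11]
  f22 := by rw [g.2.1, P.f22]
  f12 := by rw [g.2.1, P.f12]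
  ef1 := by rw [g.2.1, P.ef1]
  ef2 := by rw [g.2.1, P.ef2]
  ef12 := by rw [g.2.1, P.ef12]
  ef21 := by rw [g.2.1, P.ef21]
  dim := P.dim

namespace Fr

variable (P : Fr D) {Ω : Type*} [MulAction D.SUgrp Ω]

/-- the annihilator is everything -/
def Whole (ω : Ω) : Prop := ∀ H, IsReal D H → H ∈ P.del ω

/-- the annihilator lies on a line -/
def Linear (ω : Ω) : Prop := ∀ H ∈ P.del ω, H ≠ 0 → ∀ K ∈ P.del ω, ∃ r, D.σ r = r ∧ K = r • H

/-- fixed vectors of the line -/
def pts (ω : Ω) : Set V := {v | (∃ lam mu : F, v = lam • P.e1 + mu • P.e2) ∧ v ≠ 0 ∧ InS D ω v}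

theorem line_coord (lam mu : F) :
    D.h (lam • P.e1 + mu • P.e2) P.f1 = lam ∧ D.h (lam • P.e1 + mu • P.e2) P.f2 = mu := by
  simp [D.add_left, D.smul_left]

theorem line_inj {lam mu lam' mu' : F} (h : lam • P.e1 + mu • P.e2 = lam' • P.e1 + mu' • P.e2) :
    lam = lam' ∧ mu = mu' := by
  constructor
  · rw [← (P.line_coord lam mu).1, h, (P.line_coord lam' mu').1]
  · rw [← (P.line_coord lam mu).2, h, (P.line_coord lam' mu').2]

theorem line_ne {lam mu : F} (h : lam ≠ 0 ∨ mu ≠ 0) : lam • P.e1 + mu • P.e2 ≠ 0 := by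
  intro e
  obtain ⟨h1, h2⟩ := P.line_inj (lam' := 0) (mu' := 0) (by rw [e]; simp)
  rcases h with h | h
  exacts [h h1, h h2]

theorem hf_smul {r : F} (hr : D.σ r = r) (H : F × F × F) (lam mu : F) :
    hf D (r • H) lam mu = r * hf D H lam mu := by
  simp [hf, hr]; ring

theorem inS_gen {ω : Ω} (hlin : P.Linear ω) {H : F × F × F} (hH : H ∈ P.del ω) (h0 : H ≠ 0) (lam mu : F) :
    InS D ω (lam • P.e1 + mu • P.e2) ↔ hf D H lam mu = 0 := by
  rw [P.inS_iff]
  refine ⟨fun h => h H hH, fun h K hK => ?_⟩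
  obtain ⟨r, hr, rfl⟩ := hlin H hH h0 K hK
  rw [hf_smul hr, h, mul_zero]

theorem pts_all {ω : Ω} (hz : ∀ H ∈ P.del ω, H = 0) {lam mu : F} :
    InS D ω (lam • P.e1 + mu • P.e2) := by
  rw [P.inS_iff]
  intro H hH
  simp [hz H hH, hf]

theorem exists_second {ω : Ω} (hlin : P.Linear ω) (h1 : InS D ω P.e1) {H : F × F × F} (hH : H ∈ P.del ω)
    (hB : H.2.1 ≠ 0) : ∃ lam : F, InS D ω (lam • P.e1 + (1 : F) • P.e2) := by
  have hA : H.1 = 0 := (P.inS_e1 ω).mp h1 H hH
  obtain ⟨a, ha⟩ := D.exists_trace (b := -H.2.2) (by rw [map_neg, (P.del_real hH).2])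
  refine ⟨a / H.2.1, (P.inS_gen hlin hH (fun e => hB (by rw [e]; rfl)) _ _).mpr ?_⟩
  simp only [hf, hA, map_one, mul_one, mul_div_cancel₀ _ hB]
  linear_combination ha

theorem card_norm_le (b : F) : {y : F | y * D.σ y = b}.ncard ≤ D.q + 1 := by
  classical
  have hsub : {y : F | y * D.σ y = b} ⊆ ((Polynomial.nthRoots (D.q + 1) b).toFinset : Set F) := by
    intro y hy
    rw [Set.mem_ofPred_eq, D.σ_apply, ← pow_succ'] at hy
    rw [Finset.mem_coe, Multiset.mem_toFinset, Polynomial.mem_nthRoots (by omega)]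
    exact hy
  refine (Set.ncard_le_ncard hsub (Set.toFinite _)).trans ?_
  rw [Set.ncard_coe_finset]
  exact (Multiset.toFinset_card_le _).trans (Polynomial.card_nthRoots _ _)

theorem pts_le {ω : Ω} (h1 : ¬ InS D ω P.e1) : (P.pts ω).ncard ≤ (D.q ^ 2 - 1) * (D.q + 1) := by
  classical
  rw [P.inS_e1] at h1
  push Not at h1
  obtain ⟨H, hH, hA⟩ := h1
  obtain ⟨hA', hC⟩ := P.del_real hH
  set b := H.2.1 * D.σ H.2.1 - H.1 * H.2.2
  set T : Set (F × F) := ({0}ᶜ : Set F) ×ˢ {y : F | y * D.σ y = b}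
  have hmap : ∀ v ∈ P.pts ω, (D.h v P.f2, H.1 * (D.h v P.f1 / D.h v P.f2) + D.σ H.2.1) ∈ T := by
    rintro v ⟨⟨lam, mu, rfl⟩, hv0, hv⟩
    have hz := (P.inS_iff ω lam mu).mp hv H hH
    rw [(P.line_coord lam mu).1, (P.line_coord lam mu).2]
    have hmu : mu ≠ 0 := by
      rintro rfl
      simp [hf, hA] at hz
      exact P.line_ne (lam := lam) (mu := 0) |> fun _ => hv0 (by simp [hz])
    refine ⟨hmu, ?_⟩
    have hmu' : D.σ mu ≠ 0 := (map_ne_zero D.σ).mpr hmu
    show _ * D.σ _ = b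
    simp only [hf, map_mul, map_add, D.σσ] at hz
    simp only [b, map_add, map_mul, map_div₀, D.σσ, hA']
    field_simp
    linear_combination H.1 * hz
  have hinj : ∀ v ∈ P.pts ω, ∀ w ∈ P.pts ω,
      (D.h v P.f2, H.1 * (D.h v P.f1 / D.h v P.f2) + D.σ H.2.1) =
        (D.h w P.f2, H.1 * (D.h w P.f1 / D.h w P.f2) + D.σ H.2.1) → v = w := by
    intro v hv w hw e
    have hm := (hmap v hv).1
    obtain ⟨⟨lam, mu, rfl⟩, -, -⟩ := hv
    obtain ⟨⟨lam', mu', rfl⟩, -, -⟩ := hw
    simp only [(P.line_coord lam mu).1, (P.line_coord lam mu).2, (P.line_coord lam' mu').1,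
      (P.line_coord lam' mu').2, Prod.mk.injEq, add_left_inj, mul_right_inj' hA] at e hm
    obtain ⟨rfl, e2⟩ := e
    rw [(div_left_inj' hm).mp e2]
  refine (Set.ncard_le_ncard_of_injOn _ hmap hinj (Set.toFinite _)).trans ?_
  rw [Set.ncard_prod, Set.ncard_compl, Set.ncard_singleton, Nat.card_eq_fintype_card, D.card_F]
  exact Nat.mul_le_mul_left _ (card_norm_le b)

theorem many_of_line {ω : Ω} (hlin : P.Linear ω) {H : F × F × F} (hH : H ∈ P.del ω) (hq : Qf D H ≠ 0) :
    (D.q + 1) * (D.q ^ 2 - 1) ≤ (P.pts ω).ncard := by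
  classical
  obtain ⟨hA, hC⟩ := P.del_real hH
  have h0 : H ≠ 0 := fun e => hq (by simp [e, Qf])
  have hu : Nat.card Fˣ = D.q ^ 2 - 1 := by rw [Nat.card_units, Nat.card_eq_fintype_card, D.card_F]
  by_cases hC0 : H.2.2 = 0
  · have hB : H.2.1 ≠ 0 := fun e => hq (by simp [Qf, e, hC0])
    obtain ⟨a, ha⟩ := D.exists_trace (b := -H.1) (by rw [map_neg, hA])
    let f : Fˣ × Option D.skew → V := fun t => match t.2 with
      | none => (0 : F) • P.e1 + (t.1 : F) • P.e2
      | some z => (t.1 : F) • P.e1 + ((t.1 : F) * D.σ ((a + (z : F)) / H.2.1)) • P.e2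
    have hmem : ∀ t, f t ∈ P.pts ω := by
      rintro ⟨c, _ | z⟩
      · exact ⟨⟨_, _, rfl⟩, P.line_ne (Or.inr c.ne_zero),
          (P.inS_gen hlin hH h0 _ _).mpr (by simp [hf, hC0])⟩
      · refine ⟨⟨_, _, rfl⟩, P.line_ne (Or.inl c.ne_zero), (P.inS_gen hlin hH h0 _ _).mpr ?_⟩
        have e : (H.2.1 * ((c : F) * D.σ ((c : F) * D.σ ((a + (z : F)) / H.2.1)))) =
            (c : F) * D.σ (c : F) * (a + (z : F)) := by
          rw [map_mul, D.σσ]; field_simp
        have e2 : hf D H (c : F) ((c : F) * D.σ ((a + (z : F)) / H.2.1)) =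
            H.1 * ((c : F) * D.σ (c : F)) +
              ((c : F) * D.σ (c : F) * (a + (z : F)) + D.σ ((c : F) * D.σ (c : F) * (a + (z : F)))) := by
          simp only [hf, hC0, zero_mul, add_zero]
          rw [e]
        rw [e2, map_mul, map_mul, map_add, D.σσ, D.mem_skew.mp z.2]
        linear_combination ((c : F) * D.σ (c : F)) * ha
    have hinj : Function.Injective f := by
      rintro ⟨c, z⟩ ⟨c', z'⟩ e
      rcases z with _ | z <;> rcases z' with _ | z' <;> obtain ⟨e1, e2⟩ := P.line_inj e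
      · obtain rfl : c = c' := Units.ext e2
        rfl
      · exact absurd e1.symm c'.ne_zero
      · exact absurd e1 c.ne_zero
      · obtain rfl : c = c' := Units.ext e1
        have := D.σ_injective (mul_left_cancel₀ c.ne_zero e2)
        rw [div_left_inj' hB, add_right_inj] at this
        obtain rfl : z = z' := Subtype.ext this
        rfl
    have := Set.ncard_le_ncard (s := Set.range f) (t := P.pts ω) (by rintro _ ⟨t, rfl⟩; exact hmem t) (Set.toFinite _)
    rw [Set.ncard_range_of_injective hinj, Nat.card_prod, hu, Finite.card_option, D.card_skew] at this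
    exact le_trans (le_of_eq (by ring)) this
  · obtain ⟨c0, hc0⟩ := D.exists_norm (b := -Qf D H) (by simp [Qf, hA, hC]; ring)
    have hc : c0 ≠ 0 := by
      intro e; rw [e, zero_mul, eq_comm, neg_eq_zero] at hc0; exact hq hc0
    let f : Fˣ × {γ : F // γ * D.σ γ = 1} → V := fun t =>
      (t.1 : F) • P.e1 + ((t.1 : F) * ((c0 * (t.2 : F) - H.2.1) / H.2.2)) • P.e2
    have hmem : ∀ t, f t ∈ P.pts ω := by
      rintro ⟨c, γ, hγ⟩
      refine ⟨⟨_, _, rfl⟩, P.line_ne (Or.inl c.ne_zero), (P.inS_gen hlin hH h0 _ _).mpr ?_⟩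
      simp only [Qf] at hc0
      simp only [hf, map_mul, map_div₀, map_sub, D.σσ, hC]
      field_simp
      linear_combination ((c : F) * D.σ (c : F)) * (c0 * D.σ c0 * hγ + hc0)
    have hinj : Function.Injective f := by
      rintro ⟨c, γ⟩ ⟨c', γ'⟩ e
      obtain ⟨e1, e2⟩ := P.line_inj e
      obtain rfl : c = c' := Units.ext e1
      have := mul_left_cancel₀ c.ne_zero e2
      rw [div_left_inj' hC0, sub_left_inj, mul_right_inj' hc] at this
      obtain rfl : γ = γ' := Subtype.ext this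
      rfl
    have := Set.ncard_le_ncard (s := Set.range f) (t := P.pts ω) (by rintro _ ⟨t, rfl⟩; exact hmem t) (Set.toFinite _)
    rw [Set.ncard_range_of_injective hinj, Nat.card_prod, hu, card_norm_one] at this
    exact le_trans (le_of_eq (by ring)) this

theorem many_of_zero {ω : Ω} (hz : ∀ H ∈ P.del ω, H = 0) :
    (D.q + 1) * (D.q ^ 2 - 1) ≤ (P.pts ω).ncard := by
  classical
  let f : Fˣ × F → V := fun t => (t.1 : F) • P.e1 + t.2 • P.e2
  have hinj : Function.Injective f := by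
    intro t t' e
    obtain ⟨e1, e2⟩ := P.line_inj e
    exact Prod.ext (Units.ext e1) e2
  have := Set.ncard_le_ncard (s := Set.range f) (t := P.pts ω) (by
    rintro _ ⟨t, rfl⟩; exact ⟨⟨_, _, rfl⟩, P.line_ne (Or.inl t.1.ne_zero), P.pts_all hz⟩) (Set.toFinite _)
  rw [Set.ncard_range_of_injective hinj, Nat.card_prod, Nat.card_units, Nat.card_eq_fintype_card, D.card_F] at this
  refine le_trans ?_ this
  rw [mul_comm]
  refine Nat.mul_le_mul_left _ ?_
  nlinarith [D.two_le]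

theorem sing_point {ω : Ω} (hlin : P.Linear ω) {H : F × F × F} (hH : H ∈ P.del ω) (h0 : H ≠ 0)
    (hq : Qf D H = 0) : ∃ lam mu : F, (lam ≠ 0 ∨ mu ≠ 0) ∧ InS D ω (lam • P.e1 + mu • P.e2) ∧
      ∀ lam' mu', InS D ω (lam' • P.e1 + mu' • P.e2) → lam' * mu = lam * mu' := by
  obtain ⟨hA, hC⟩ := P.del_real hH
  simp only [Qf, sub_eq_zero] at hq
  by_cases hC0 : H.2.2 = 0
  · have hB : H.2.1 = 0 := by simpa [hC0] using hq.symm
    have hA0 : H.1 ≠ 0 := fun e => h0 (Prod.ext e (Prod.ext hB hC0))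
    refine ⟨0, 1, Or.inr one_ne_zero, (P.inS_gen hlin hH h0 _ _).mpr (by simp [hf, hC0]), fun l m h => ?_⟩
    have := (P.inS_gen hlin hH h0 _ _).mp h
    simp [hf, hC0, hB, hA0] at this
    simp [this]
  · refine ⟨H.2.2, -H.2.1, Or.inl hC0, (P.inS_gen hlin hH h0 _ _).mpr ?_, fun l m h => ?_⟩
    · simp only [hf, map_mul, map_neg, D.σσ, hC]
      linear_combination (H.2.2 * H.2.2) * 1 * (rfl : (0 : F) = 0) + H.2.2 * hq
    · have := (P.inS_gen hlin hH h0 _ _).mp h
      simp only [hf, map_mul, D.σσ] at this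
      have e : (H.2.1 * l + H.2.2 * m) * D.σ (H.2.1 * l + H.2.2 * m) = 0 := by
        rw [map_add, map_mul, map_mul, hC]
        linear_combination H.2.2 * this - (l * D.σ l) * hq
      have e' : H.2.1 * l + H.2.2 * m = 0 := by
        rcases mul_eq_zero.mp e with e | e
        exacts [e, (map_eq_zero D.σ).mp e]
      linear_combination -e'

theorem exists_point [Finite Ω] (hd : Small (D := D) Ω) {ω : Ω} (hnw : ¬ P.Whole ω) :
    ∃ lam mu : F, (lam ≠ 0 ∨ mu ≠ 0) ∧ InS D ω (lam • P.e1 + mu • P.e2) := by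
  have hlin : P.Linear ω := (P.shape hd ω).resolve_left hnw
  by_cases hz : ∀ H ∈ P.del ω, H = 0
  · exact ⟨1, 0, Or.inl one_ne_zero, P.pts_all hz⟩
  push Not at hz
  obtain ⟨H, hH, h0⟩ := hz
  by_cases hq : Qf D H = 0
  · obtain ⟨l, m, h, h', -⟩ := P.sing_point hlin hH h0 hq
    exact ⟨l, m, h, h'⟩
  · have h := P.many_of_line hlin hH hq
    have hpos : 0 < (D.q + 1) * (D.q ^ 2 - 1) := by
      have := D.two_le
      exact Nat.mul_pos (by omega) (by nlinarith [Nat.sub_pos_of_lt (show 1 < D.q ^ 2 by nlinarith)])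
    obtain ⟨v, ⟨l, m, rfl⟩, hv0, hv⟩ := (Set.ncard_pos (Set.toFinite _)).mp (hpos.trans_le h)
    refine ⟨l, m, ?_, hv⟩
    by_contra hc
    push Not at hc
    exact hv0 (by simp [hc.1, hc.2])

variable (D) in
/-- the vector pushed along the isotropic vector fixes the point -/
def Fx (ω : Ω) (p w : V) : Prop := ∀ (a : F) (h : D.ERel p w a), (⟨D.eEquiv h, D.eEquiv_mem h⟩ : D.SUgrp) • ω = ω

end Fr

variable {Ω : Type*} [MulAction D.SUgrp Ω]

theorem fx_of_one {ω : Ω} {p w : V} (hp : InS D ω p) {a : F} (h : D.ERel p w a)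
    (hfix : (⟨D.eEquiv h, D.eEquiv_mem h⟩ : D.SUgrp) • ω = ω) : Fr.Fx D ω p w := by
  intro b h'
  have ha : D.σ (b - a) = -(b - a) := by
    rw [map_sub]; linear_combination h'.2.2 - h.2.2
  have e : (⟨D.eEquiv h', D.eEquiv_mem h'⟩ : D.SUgrp) =
      tauG hp.1 ha * ⟨D.eEquiv h, D.eEquiv_mem h⟩ := by
    apply Subtype.ext
    show D.eEquiv h' = D.tau hp.1 ha * D.eEquiv h
    rw [HermData.tau, D.eEquiv_mul]
    exact D.eEquiv_congr _ _ (zero_add w).symm (by rw [D.zero_right]; ring)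
  rw [e, mul_smul, hfix, hp.2 hp.1 _ ha]

theorem fx_add {ω : Ω} {p w w' : V} (hp : InS D ω p) (hw : D.h w p = 0) (hw' : D.h w' p = 0)
    (h : Fr.Fx D ω p w) (h' : Fr.Fx D ω p w') : Fr.Fx D ω p (w + w') := by
  obtain ⟨a, ha⟩ := D.exists_trace (b := -D.h w w) (by rw [map_neg, D.self_fixed])
  obtain ⟨a', ha'⟩ := D.exists_trace (b := -D.h w' w') (by rw [map_neg, D.self_fixed])
  have r : D.ERel p w a := ⟨hp.1, hw, by rw [ha]; ring⟩
  have r' : D.ERel p w' a' := ⟨hp.1, hw', by rw [ha']; ring⟩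
  refine fx_of_one hp (r.mul D r') ?_
  have e : (⟨D.eEquiv (r.mul D r'), D.eEquiv_mem _⟩ : D.SUgrp) =
      ⟨D.eEquiv r, D.eEquiv_mem _⟩ * ⟨D.eEquiv r', D.eEquiv_mem _⟩ :=
    Subtype.ext (D.eEquiv_mul r r').symm
  rw [e, mul_smul, h' _ r', h _ r]

theorem fx_center {ω : Ω} {p : V} (hp : InS D ω p) (c : F) : Fr.Fx D ω p (c • p) := by
  intro a h
  have h0 : D.ERel p ((0 : V) + c • p) a := by rw [zero_add]; exact h
  have hsk : D.σ (a + c - D.σ c) = -(a + c - D.σ c) := by
    have := h.2.2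
    rw [D.smul_left, D.smul_right, hp.1] at this
    rw [map_sub, map_add, D.σσ]; linear_combination this
  have e : (⟨D.eEquiv h, D.eEquiv_mem h⟩ : D.SUgrp) = tauG hp.1 hsk := by
    apply Subtype.ext
    show D.eEquiv h = D.eEquiv (D.tRel hp.1 hsk)
    rw [D.eEquiv_congr h h0 (zero_add _).symm rfl]
    exact D.eEquiv_add_center c h0 _
  rw [e]; exact hp.2 _ _ hsk

theorem fx_map {ω : Ω} {p w : V} (hp : InS D ω p) (hwp : D.h w p = 0) (h : Fr.Fx D ω p w) {g : D.SUgrp}
    (hg : g • ω = ω) (hgp : (g : V ≃ₗ[F] V) p = p) : Fr.Fx D ω p ((g : V ≃ₗ[F] V) w) := by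
  obtain ⟨a, ha⟩ := D.exists_trace (b := -D.h w w) (by rw [map_neg, D.self_fixed])
  have r : D.ERel p w a := ⟨hp.1, hwp, by rw [ha]; ring⟩
  have r' : D.ERel p ((g : V ≃ₗ[F] V) w) a := by
    have := r.map D g.2.1
    rwa [hgp] at this
  refine fx_of_one hp r' ?_
  have e : g * ⟨D.eEquiv r, D.eEquiv_mem _⟩ = (⟨D.eEquiv r', D.eEquiv_mem _⟩ : D.SUgrp) * g := by
    apply Subtype.ext
    refine LinearEquiv.ext fun x => ?_
    show (g : V ≃ₗ[F] V) (D.eEquiv r x) = D.eEquiv r' ((g : V ≃ₗ[F] V) x)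
    simp only [HermData.eEquiv_apply, map_add, map_sub, map_smul, g.2.1, hgp]
    rw [← g.2.1 x p, hgp]
  calc (⟨D.eEquiv r', D.eEquiv_mem _⟩ : D.SUgrp) • ω
      = (⟨D.eEquiv r', D.eEquiv_mem _⟩ : D.SUgrp) • g • ω := by rw [hg]
    _ = g • (⟨D.eEquiv r, D.eEquiv_mem _⟩ : D.SUgrp) • ω := by rw [← mul_smul, ← e, mul_smul]
    _ = ω := by rw [h a r, hg]

theorem fx_line (P : Fr D) {ω : Ω} (h1 : InS D ω P.e1) (hB : ∀ H ∈ P.del ω, H.2.1 = 0) (c : F) :
    Fr.Fx D ω P.e1 (c • P.e2) := by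
  have hr : IsReal D ((0 : F), -D.σ c * sk D, (0 : F)) := isReal_mk (map_zero _) (map_zero _)
  have hrel : D.ERel P.e1 (c • P.e2) 0 := ⟨P.e11, by simp [D.smul_left], by simp [D.smul_left, D.smul_right]⟩
  refine fx_of_one h1 hrel ?_
  have e : (⟨D.eEquiv hrel, D.eEquiv_mem _⟩ : D.SUgrp) = P.gA (0, -D.σ c * sk D, 0) := by
    apply Subtype.ext
    refine LinearEquiv.ext fun x => ?_
    have := sk_ne (D := D)
    rw [P.gA_apply hr]
    simp only [HermData.eEquiv_apply, D.smul_right, map_mul, map_neg, D.σσ, sk_skew, zero_div, zero_mul]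
    match_scalars <;> field_simp <;> ring
  rw [e]
  exact (P.fix_iff hr).mpr fun H hH => by simp [ph, hB H hH]

theorem inS_emap {ω : Ω} {p : V} (hp : InS D ω p) (hall : ∀ w, D.h w p = 0 → Fr.Fx D ω p w) {s : V}
    (hs : InS D ω s) (hsp : D.h s p ≠ 0) {y : V} (hy : D.h y y = 0) (hyp : D.h y p ≠ 0) : InS D ω y := by
  set c := D.h s p / D.h y p
  have hc : c ≠ 0 := div_ne_zero hsp hyp
  obtain ⟨w, a, h, e⟩ := exists_emap (p := p) (x := s) (y := c • y) hp.1 hsp
    (by rw [D.smul_left, div_mul_cancel₀ _ hyp]) (by rw [D.smul_left, D.smul_right, hy, hs.1, mul_zero, mul_zero])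
  have := hs.map (hall w h.2.1 a h)
  rw [show ((⟨D.eEquiv h, D.eEquiv_mem h⟩ : D.SUgrp) : V ≃ₗ[F] V) s = c • y from e] at this
  have := this.smul c⁻¹
  rwa [inv_smul_smul₀ hc] at this

/-- from one isolated fixed point on a line all isotropic vectors are fixed -/
theorem all_of_single [Finite Ω] (hd : Fr.Small (D := D) Ω) {ω : Ω} (hnw : ∀ P : Fr D, ¬ P.Whole ω)
    (P : Fr D) (h1 : InS D ω P.e1) (hs : ∀ lam : F, ¬ InS D ω (lam • P.e1 + (1 : F) • P.e2)) :
    ∀ v, D.h v v = 0 → InS D ω v := by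
  have hlin : ∀ P : Fr D, P.Linear ω := fun P => (P.shape hd ω).resolve_left (hnw P)
  have hB : ∀ H ∈ P.del ω, H.2.1 = 0 := fun H hH => by
    by_contra hB
    obtain ⟨l, hl⟩ := P.exists_second (hlin P) h1 hH hB
    exact hs l hl
  have he2 : ∀ c : F, Fr.Fx D ω P.e1 (c • P.e2) := fx_line P h1 hB
  have hf2 : ∀ c : F, Fr.Fx D ω P.e1 (c • P.f2) := by
    intro c
    by_cases hB' : ∀ H ∈ P.flip.del ω, H.2.1 = 0
    · exact fx_line P.flip h1 hB' c
    push Not at hB'
    obtain ⟨H, hH, hne⟩ := hB'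
    obtain ⟨l, hl⟩ := P.flip.exists_second (hlin P.flip) h1 hH hne
    simp only [Fr.flip_e1, Fr.flip_e2, one_smul] at hl
    obtain ⟨t, ht, ht0⟩ := D.exists_skew_ne
    set g : D.SUgrp := tauG hl.1 ht
    have hgp : (g : V ≃ₗ[F] V) P.e1 = P.e1 := by
      show D.tau hl.1 ht P.e1 = _
      simp [HermData.tau_apply, D.add_right, D.smul_right]
    have hm := fx_map h1 (by simp [D.smul_left]) (he2 (c / t)) (hl.2 hl.1 t ht) hgp
    have e : (g : V ≃ₗ[F] V) ((c / t) • P.e2) = (c / t) • P.e2 + c • P.f2 + (c * l) • P.e1 := by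
      show D.tau hl.1 ht _ = _
      simp [HermData.tau_apply, D.add_right, D.smul_left, D.smul_right, mul_div_cancel₀ _ ht0]
      match_scalars <;> field_simp
    rw [e] at hm
    have := fx_add h1 (by simp [D.add_left, D.smul_left]) (by simp [D.add_left, D.smul_left]) hm
      (fx_add h1 (by simp [D.smul_left]) (by simp [D.smul_left]) (fx_center h1 (-(c * l))) (he2 (-(c / t))))
    convert this using 1
    module
  have hall : ∀ w, D.h w P.e1 = 0 → Fr.Fx D ω P.e1 w := by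
    intro w hw
    have e : w = D.h w P.f1 • P.e1 + (D.h w P.f2 • P.e2 + D.h w P.e2 • P.f2) := by
      conv_lhs => rw [P.decomp w, hw]
      module
    rw [e]
    exact fx_add h1 (by simp [D.smul_left]) (by simp [D.add_left, D.smul_left]) (fx_center h1 _)
      (fx_add h1 (by simp [D.smul_left]) (by simp [D.smul_left]) (he2 _) (hf2 _))
  obtain ⟨s, hsS, hsp⟩ : ∃ s, InS D ω s ∧ D.h s P.e1 ≠ 0 := by
    obtain ⟨a, b, hab, hr⟩ := P.opp.exists_point hd (hnw P.opp)
    simp only [Fr.opp_e1, Fr.opp_e2] at hr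
    by_cases ha : a = 0
    swap
    · exact ⟨_, hr, by simpa [D.add_left, D.smul_left] using ha⟩
    have hf : InS D ω P.f2 := by
      subst ha
      have hb : b ≠ 0 := hab.resolve_left (fun h => h rfl)
      simpa [smul_smul, inv_mul_cancel₀ hb] using hr.smul b⁻¹
    set Q := P.opp.swap
    by_cases hBQ : ∀ H ∈ Q.del ω, H.2.1 = 0
    swap
    · push Not at hBQ
      obtain ⟨H, hH, hne⟩ := hBQ
      obtain ⟨l, hl⟩ := Q.exists_second (hlin Q) hf hH hne
      exact ⟨_, hl, by simp [Q, D.add_left, D.smul_left]⟩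
    have hfx := fx_line Q hf hBQ 1
    obtain ⟨a', b', hab', hr'⟩ := P.flip.opp.exists_point hd (hnw _)
    simp only [Fr.opp_e1, Fr.opp_e2, Fr.flip_f1, Fr.flip_f2] at hr'
    by_cases ha' : a' = 0
    swap
    · exact ⟨_, hr', by simpa [D.add_left, D.smul_left] using ha'⟩
    have he : InS D ω P.e2 := by
      subst ha'
      have hb : b' ≠ 0 := hab'.resolve_left (fun h => h rfl)
      simpa [smul_smul, inv_mul_cancel₀ hb] using hr'.smul b'⁻¹
    have hrel : D.ERel Q.e1 ((1 : F) • Q.e2) 0 := ⟨Q.e11, by simp [Q], by simp [Q]⟩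
    refine ⟨_, he.map (hfx 0 hrel), ?_⟩
    simp [Q, HermData.eEquiv_apply, D.add_left, D.sub_left, D.smul_left]
  intro v hv
  by_cases hvp : D.h v P.e1 = 0
  swap
  · exact inS_emap h1 hall hsS hsp hv hvp
  by_cases hmult : ∃ c : F, v = c • P.e1
  · obtain ⟨c, rfl⟩ := hmult
    exact h1.smul c
  push Not at hmult
  have hv0 : v ≠ 0 := fun e => hmult 0 (by simp [e])
  obtain ⟨y, -, hyv, hyp⟩ := D.exists_pairing_orth D.nondeg_top (Submodule.mem_top (x := v))
    (Submodule.mem_top (x := P.e1)) (fun c e => by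
      rcases eq_or_ne c 0 with rfl | hc
      · exact P.e1_ne (by rw [e, zero_smul])
      · exact hmult c⁻¹ (by rw [e, inv_smul_smul₀ hc]))
  obtain ⟨d, hd'⟩ := D.exists_trace (b := -D.h y y) (by rw [map_neg, D.self_fixed])
  have hpy : D.h P.e1 y = 1 := by rw [← D.symm, hyp, map_one]
  set f := y + d • P.e1
  have hff : D.h f f = 0 := by
    simp only [f, D.add_left, D.add_right, D.smul_left, D.smul_right, hyp, hpy, P.e11]
    linear_combination hd'
  have hfv : D.h f v = 0 := by simp [f, D.add_left, D.smul_left, hyv, D.eq_zero_comm hvp]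
  have hfp : D.h f P.e1 = 1 := by simp [f, D.add_left, D.smul_left, hyp]
  obtain ⟨R, hR1, hR2⟩ := exists_fr P.dim hv hff (D.eq_zero_comm hfv) hv0 fun c e => by
    rw [e, D.smul_left, hvp, mul_zero] at hfp
    exact zero_ne_one hfp
  rw [← hR1, R.inS_e1]
  intro H hH
  have hC : H.2.2 = 0 := (R.inS_e2 ω).mp (hR2 ▸ inS_emap h1 hall hsS hsp hff (by rw [hfp]; exact one_ne_zero)) H hH
  have hν : ∀ ν : F, ν ≠ 0 → hf D H 1 ν = 0 := fun ν hν =>
    (R.inS_iff ω 1 ν).mp (by
      rw [hR1, hR2, one_smul]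
      refine inS_emap h1 hall hsS hsp ?_ ?_
      · simp [D.add_left, D.add_right, D.smul_left, D.smul_right, hv, hff, hfv, D.eq_zero_comm hfv]
      · simp [D.add_left, D.smul_left, hvp, hfp, hν]) H hH
  obtain ⟨x, hx⟩ := D.exists_not_fixed
  have hx0 : x ≠ 0 := fun e => hx (by rw [e, map_zero])
  have hx1 : x + 1 ≠ 0 := fun e => hx (by rw [eq_neg_of_add_eq_zero_left e]; simp)
  have e1 := hν x hx0
  have e2 := hν 1 one_ne_zero
  have e3 := hν (x + 1) hx1
  simp only [hf, hC, map_add, map_mul, map_one, D.σσ] at e1 e2 e3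
  linear_combination e1 + e2 - e3

/-- the transvection fixed vectors form everything when every line has many -/
theorem all_of_many [Finite Ω] {ω : Ω} (dim : Module.finrank F V = 4)
    (hI : (D.normSet (⊤ : Submodule F V) 0).ncard = (D.q ^ 2 - 1) * (D.q ^ 2 + 1) * (D.q ^ 3 + 1))
    (hmany : ∀ P : Fr D, (D.q + 1) * (D.q ^ 2 - 1) ≤ (P.pts ω).ncard) :
    ∀ v, D.h v v = 0 → InS D ω v := by
  classical
  have : Fintype V := Fintype.ofFinite V
  have : Finite D.SUgrp := Finite.of_injective (fun g : D.SUgrp => ((g : V ≃ₗ[F] V) : V → V))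
    (fun g g' e => Subtype.ext (LinearEquiv.ext (congrFun e)))
  have : Fintype D.SUgrp := Fintype.ofFinite _
  set I : Finset V := Finset.univ.filter fun v => v ≠ 0 ∧ D.h v v = 0 with hIdef
  set S : Finset V := I.filter fun v => InS D ω v with hS
  have hIc : I.card = (D.q ^ 2 - 1) * (D.q ^ 2 + 1) * (D.q ^ 3 + 1) := by
    rw [← hI, ← Set.ncard_coe_finset]
    congr 1
    ext v
    simp [hIdef, HermData.normSet]
  intro x hx
  by_contra hxS
  have hx0 : x ≠ 0 := by
    rintro rfl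
    refine hxS ⟨D.zero_left 0, fun hv a ha => ?_⟩
    have : tauG hv ha = 1 := Subtype.ext (LinearEquiv.ext fun z => by
      show D.tau hv ha z = z
      simp [HermData.tau_apply])
    rw [this, one_smul]
  obtain ⟨P, hP⟩ := exists_fr_one dim hx hx0
  subst hP
  have hG : 0 < Fintype.card D.SUgrp := Fintype.card_pos
  -- averaging over the images of one line
  set E : Finset V := Finset.univ.filter fun v => (∃ lam mu : F, v = lam • P.e1 + mu • P.e2) ∧ v ≠ 0 with hE
  have hEc : E.card ≤ D.q ^ 4 - 1 := by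
    have hsub : E ⊆ ((Finset.univ : Finset (F × F)).erase 0).image fun t => t.1 • P.e1 + t.2 • P.e2 := by
      intro v hv
      obtain ⟨-, ⟨l, m, rfl⟩, hv0⟩ := Finset.mem_filter.mp hv
      refine Finset.mem_image.mpr ⟨(l, m), Finset.mem_erase.mpr ⟨fun e => ?_, Finset.mem_univ _⟩, rfl⟩
      obtain ⟨rfl, rfl⟩ := Prod.mk.inj e
      exact hv0 (by simp)
    refine (Finset.card_le_card hsub).trans (Finset.card_image_le.trans (le_of_eq ?_))
    rw [Finset.card_erase_of_mem (Finset.mem_univ _), Finset.card_univ, Fintype.card_prod, D.card_F]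
    congr 1; ring
  have hEI : ∀ v ∈ E, v ∈ I := by
    intro v hv
    obtain ⟨-, ⟨l, m, rfl⟩, hv0⟩ := Finset.mem_filter.mp hv
    exact Finset.mem_filter.mpr ⟨Finset.mem_univ _, hv0, P.iso_line l m⟩
  have hfib : ∀ v ∈ I, (Finset.univ.filter fun g : D.SUgrp => (g : V ≃ₗ[F] V) v ∈ S).card * I.card =
      Fintype.card D.SUgrp * S.card := by
    intro v hv
    obtain ⟨-, hv0, hvv⟩ := Finset.mem_filter.mp hv
    have hin : ∀ g : D.SUgrp, (g : V ≃ₗ[F] V) v ∈ I := fun g => Finset.mem_filter.mpr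
      ⟨Finset.mem_univ _, fun e => hv0 ((g : V ≃ₗ[F] V).map_eq_zero_iff.mp e), by rw [g.2.1, hvv]⟩
    set c := (Finset.univ.filter fun g : D.SUgrp => (g : V ≃ₗ[F] V) v = v).card
    have hc : ∀ y ∈ I, (Finset.univ.filter fun g : D.SUgrp => (g : V ≃ₗ[F] V) v = y).card = c := by
      intro y hy
      obtain ⟨-, hy0, hyy⟩ := Finset.mem_filter.mp hy
      obtain ⟨γ, hγ, hγv⟩ := D.gam_transitive_iso D.nondeg_top (by rw [finrank_top, dim]; omega)
        (Submodule.mem_top (x := v)) (Submodule.mem_top (x := y)) hv0 hy0 hvv hyy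
      let k : D.SUgrp := ⟨γ, D.gam_le_SUgrp _ hγ⟩
      refine (Finset.card_equiv (Equiv.mulLeft k) fun g => ?_).symm
      simp only [Finset.mem_filter, Finset.mem_univ, true_and, Equiv.coe_mulLeft]
      show (g : V ≃ₗ[F] V) v = v ↔ γ ((g : V ≃ₗ[F] V) v) = y
      rw [← hγv]
      exact ⟨fun e => by rw [e], fun e => γ.injective e⟩
    have hsum : ∀ T : Finset V, T ⊆ I →
        (Finset.univ.filter fun g : D.SUgrp => (g : V ≃ₗ[F] V) v ∈ T).card = T.card * c := by
      intro T hT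
      rw [Finset.card_eq_sum_card_fiberwise (s := Finset.univ.filter fun g : D.SUgrp => (g : V ≃ₗ[F] V) v ∈ T)
        (f := fun g : D.SUgrp => (g : V ≃ₗ[F] V) v) (t := T)
        (fun g hg => (Finset.mem_filter.mp hg).2), ← smul_eq_mul, ← Finset.sum_const]
      refine Finset.sum_congr rfl fun y hy => ?_
      rw [Finset.filter_filter, ← hc y (hT hy)]
      congr 1
      ext g
      simp only [Finset.mem_filter, Finset.mem_univ, true_and]
      exact ⟨fun e => e.2, fun e => ⟨e ▸ hy, e⟩⟩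
    have h1 := hsum I subset_rfl
    rw [Finset.filter_true_of_mem (fun g _ => hin g), Finset.card_univ] at h1
    rw [hsum S (Finset.filter_subset _ _), h1]; ring
  have hbip := Finset.sum_card_bipartiteAbove_eq_sum_card_bipartiteBelow
    (fun (g : D.SUgrp) (v : V) => (g : V ≃ₗ[F] V) v ∈ S) (s := Finset.univ) (t := E)
  have hlow : ∀ g ∈ (Finset.univ : Finset D.SUgrp), (D.q + 1) * (D.q ^ 2 - 1) ≤
      (Finset.bipartiteAbove (fun (g : D.SUgrp) (v : V) => (g : V ≃ₗ[F] V) v ∈ S) E g).card := by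
    intro g _
    refine (hmany (P.map g)).trans ?_
    rw [← Set.ncard_coe_finset]
    refine Set.ncard_le_ncard_of_injOn (fun v => ((g : V ≃ₗ[F] V)).symm v) ?_
      (fun v _ w _ e => (g : V ≃ₗ[F] V).symm.injective e) (Set.toFinite _)
    rintro _ ⟨⟨l, m, rfl⟩, hv0, hv⟩
    simp only [Fr.map, ← map_smul, ← map_add, LinearEquiv.symm_apply_apply, Finset.bipartiteAbove,
      Finset.coe_filter, Set.mem_ofPred_eq, hE, Finset.mem_filter, Finset.mem_univ, true_and] at hv0 hv ⊢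
    refine ⟨⟨⟨l, m, rfl⟩, fun e => hv0 (by rw [e, map_zero])⟩, ?_⟩
    exact Finset.mem_filter.mpr ⟨Finset.mem_filter.mpr ⟨Finset.mem_univ _, hv0, hv.1⟩, hv⟩
  have h1 := Finset.sum_le_sum hlow
  rw [Finset.sum_const, smul_eq_mul, hbip, Finset.card_univ] at h1
  have h2 : Fintype.card D.SUgrp * ((D.q + 1) * (D.q ^ 2 - 1)) * I.card ≤
      (D.q ^ 4 - 1) * (Fintype.card D.SUgrp * S.card) := by
    refine (Nat.mul_le_mul_right I.card h1).trans ?_
    rw [Finset.sum_mul, Finset.sum_congr rfl fun v hv => ?_, Finset.sum_const, smul_eq_mul]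
    · exact Nat.mul_le_mul_right _ hEc
    · exact hfib v (hEI v hv)
  have h3 : (D.q + 1) * (D.q ^ 2 - 1) * I.card ≤ (D.q ^ 4 - 1) * S.card := by
    refine Nat.le_of_mul_le_mul_left ?_ hG
    calc Fintype.card D.SUgrp * ((D.q + 1) * (D.q ^ 2 - 1) * I.card)
        = Fintype.card D.SUgrp * ((D.q + 1) * (D.q ^ 2 - 1)) * I.card := by ring
      _ ≤ _ := h2
      _ = _ := by ring
  -- the fixed vectors not orthogonal to `x`
  set S1 := S.filter fun v => D.h v P.e1 ≠ 0 with hS1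
  set S2 := S.filter fun v => D.h v P.e1 = 0 with hS2
  have hS12 : S.card = S2.card + S1.card := (Finset.card_filter_add_card_filter_not _).symm
  have hS1c : S1.card ≤ (D.q ^ 2 - 1) * (D.q ^ 2 * D.q ^ 2) := by
    have hb := Finset.card_le_card_of_injOn
      (fun v => (D.h v P.e1, D.h v P.e2, D.h v P.f2)) (s := S1)
      (t := (Finset.univ.erase (0 : F)) ×ˢ ((Finset.univ : Finset F) ×ˢ (Finset.univ : Finset F)))
      (fun v hv => by
        simp only [hS1, Finset.mem_coe, Finset.mem_filter] at hv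
        simp [hv.2])
      (fun v hv w hw e => by
        simp only [hS1, hS, Finset.coe_filter, Set.mem_ofPred_eq, Finset.mem_filter] at hv hw
        simp only [Prod.mk.injEq] at e
        obtain ⟨e1, e2, e3⟩ := e
        by_contra hne
        set d := D.h w P.f1 - D.h v P.f1
        have hw' : w = v + d • P.e1 := by
          rw [P.decomp v, P.decomp w, e1, e2, e3]
          simp only [d]
          module
        have hd0 : d ≠ 0 := fun h => hne (by rw [hw', h, zero_smul, add_zero])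
        set η := D.h w v with hη
        have hη' : η = d * D.h P.e1 v := by rw [hη, hw', D.add_left, D.smul_left, hv.1.2.1]; ring
        have hη0 : η ≠ 0 := hη' ▸ mul_ne_zero hd0 fun h => hv.2 (D.eq_zero_comm h)
        have hsk : D.σ η = -η := by
          have h := hw.1.2.1
          rw [hw', D.add_left, D.add_right, D.add_right, D.smul_left, D.smul_left, D.smul_right, D.smul_right,
            hv.1.2.1, P.e11] at h
          rw [hη', map_mul, D.symm]
          linear_combination h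
        have ha : D.σ (-η⁻¹) = -(-η⁻¹) := by rw [map_neg, map_inv₀, hsk, inv_neg]
        have := (hw.1.2.map (hv.1.2.2 hv.1.2.1 _ ha)).smul d⁻¹
        refine hxS ?_
        convert this using 1
        show P.e1 = d⁻¹ • D.tau hv.1.2.1 ha w
        rw [HermData.tau_apply, ← hη, neg_mul, inv_mul_cancel₀ hη0, hw', smul_add, smul_add, smul_smul,
          inv_mul_cancel₀ hd0]
        module)
    simpa [Finset.card_product, Finset.card_erase_of_mem, D.card_F] using hb
  -- the fixed vectors orthogonal to `x`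
  have hS2c : S2.card ≤ (D.q + 1) * ((D.q ^ 2 - 1) * (D.q + 1)) := by
    let z : Option D.skew → V := fun t => match t with
      | none => P.f2
      | some t => P.e2 + (t : F) • P.f2
    have hz : ∀ t, D.h (z t) (z t) = 0 ∧ D.h P.e1 (z t) = 0 ∧ ∀ c : F, z t ≠ c • P.e1 := by
      rintro (_ | t)
      · refine ⟨P.f22, P.ef12, fun c e => ?_⟩
        have := congrArg (fun v => D.h v P.e2) e
        simp [z, D.smul_left] at this
      · refine ⟨?_, by simp [z, D.add_right, D.smul_right], fun c e => ?_⟩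
        · simp [z, D.add_left, D.add_right, D.smul_left, D.smul_right, D.mem_skew.mp t.2]
        · have := congrArg (fun v => D.h v P.f2) e
          simp [z, D.add_left, D.smul_left] at this
    choose R hR1 hR2 using fun t => exists_fr P.dim P.e11 (hz t).1 (hz t).2.1 P.e1_ne (hz t).2.2
    have hsub : S2 ⊆ (Finset.univ : Finset (Option D.skew)).biUnion fun t => ((R t).pts ω).toFinset := by
      intro v hv
      simp only [hS2, hS, hIdef, Finset.mem_filter, Finset.mem_univ, true_and] at hv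
      obtain ⟨⟨⟨hv0, hvv⟩, hvS⟩, hvp⟩ := hv
      have hdec : v = D.h v P.f1 • P.e1 + (D.h v P.f2 • P.e2 + D.h v P.e2 • P.f2) := by
        conv_lhs => rw [P.decomp v, hvp]
        module
      set al := D.h v P.f1
      set be := D.h v P.f2
      set ga := D.h v P.e2
      simp only [Finset.mem_biUnion, Finset.mem_univ, true_and, Set.mem_toFinset]
      by_cases hbe : be = 0
      · refine ⟨none, ⟨al, ga, ?_⟩, hv0, hvS⟩
        rw [hR1, hR2, hdec, hbe]
        simp [z]
      · have ht : ga / be ∈ D.skew := by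
          have hbe' : D.σ be ≠ 0 := (map_ne_zero D.σ).mpr hbe
          rw [hdec] at hvv
          simp [D.add_left, D.add_right, D.smul_left, D.smul_right] at hvv
          rw [D.mem_skew, map_div₀]
          field_simp
          linear_combination hvv
        refine ⟨some ⟨ga / be, ht⟩, ⟨al, be, ?_⟩, hv0, hvS⟩
        rw [hR1, hR2, hdec]
        simp [z, smul_smul, mul_div_cancel₀ _ hbe]
    refine (Finset.card_le_card hsub).trans ((Finset.card_biUnion_le_card_mul _ _ ((D.q ^ 2 - 1) * (D.q + 1)) fun t _ => ?_).trans ?_)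
    · rw [← Set.ncard_eq_toFinset_card']
      exact (R t).pts_le (hR1 t ▸ hxS)
    · rw [Finset.card_univ, ← Nat.card_eq_fintype_card, Finite.card_option, D.card_skew]
  have hq := D.two_le
  rw [hIc] at h3
  obtain ⟨j, hj⟩ : ∃ j, D.q = j + 2 := ⟨D.q - 2, by omega⟩
  obtain ⟨r, hr⟩ : ∃ r, D.q ^ 2 = r + 1 := ⟨D.q ^ 2 - 1, by have := Nat.one_le_pow 2 D.q (by omega); omega⟩
  have hr4 : D.q ^ 4 - 1 = r * (D.q ^ 2 + 1) := by
    rw [show D.q ^ 4 = D.q ^ 2 * D.q ^ 2 by ring, hr]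
    have : (r + 1) * (r + 1) = r * (r + 1 + 1) + 1 := by ring
    omega
  have hr1 : D.q ^ 2 - 1 = r := by omega
  rw [hr4, hr1] at h3
  rw [hr1] at hS1c hS2c
  have hrpos : 0 < r := by nlinarith
  have h5 : (D.q + 1) * r * (D.q ^ 3 + 1) ≤ S.card := by
    refine Nat.le_of_mul_le_mul_left ?_ (show 0 < r * (D.q ^ 2 + 1) by positivity)
    calc r * (D.q ^ 2 + 1) * ((D.q + 1) * r * (D.q ^ 3 + 1))
        = (D.q + 1) * r * (r * (D.q ^ 2 + 1) * (D.q ^ 3 + 1)) := by ring
      _ ≤ _ := h3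
  have h6 : (D.q + 1) * (D.q + 1) + D.q ^ 2 * D.q ^ 2 < (D.q + 1) * (D.q ^ 3 + 1) := by
    rw [hj]; ring_nf; nlinarith
  have h7 : r * ((D.q + 1) * (D.q + 1) + D.q ^ 2 * D.q ^ 2) < r * ((D.q + 1) * (D.q ^ 3 + 1)) :=
    Nat.mul_lt_mul_of_pos_left h6 hrpos
  have e1 : (D.q + 1) * (r * (D.q + 1)) + r * (D.q ^ 2 * D.q ^ 2) =
      r * ((D.q + 1) * (D.q + 1) + D.q ^ 2 * D.q ^ 2) := by ring
  have e2 : (D.q + 1) * r * (D.q ^ 3 + 1) = r * ((D.q + 1) * (D.q ^ 3 + 1)) := by ring
  omega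

/-- no line with full annihilator at a point: every transvection fixes it -/
theorem all_of_no_whole [Finite Ω] (hd : Fr.Small (D := D) Ω)
    (dim : Module.finrank F V = 4)
    (hI : (D.normSet (⊤ : Submodule F V) 0).ncard = (D.q ^ 2 - 1) * (D.q ^ 2 + 1) * (D.q ^ 3 + 1))
    {ω : Ω} (hnw : ∀ P : Fr D, ¬ P.Whole ω) : ∀ v, D.h v v = 0 → InS D ω v := by
  by_cases hsingle : ∃ P : Fr D, InS D ω P.e1 ∧ ∀ lam : F, ¬ InS D ω (lam • P.e1 + (1 : F) • P.e2)
  · obtain ⟨P, h1, h2⟩ := hsingle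
    exact all_of_single hd hnw P h1 h2
  push Not at hsingle
  refine all_of_many dim hI fun P => ?_
  have hlin : P.Linear ω := (P.shape hd ω).resolve_left (hnw P)
  by_cases hz : ∀ H ∈ P.del ω, H = 0
  · exact P.many_of_zero hz
  push Not at hz
  obtain ⟨H, hH, h0⟩ := hz
  by_cases hq : Qf D H = 0
  swap
  · exact P.many_of_line hlin hH hq
  exfalso
  obtain ⟨l, m, hlm, hv, huniq⟩ := P.sing_point hlin hH h0 hq
  obtain ⟨w, hw, hind⟩ : ∃ w, (∃ l' m' : F, w = l' • P.e1 + m' • P.e2 ∧ l' * m ≠ l * m') ∧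
      ∀ c : F, w ≠ c • (l • P.e1 + m • P.e2) := by
    by_cases hm : m = 0
    · have hl : l ≠ 0 := hlm.resolve_right (fun h => h hm)
      refine ⟨(0 : F) • P.e1 + (1 : F) • P.e2, ⟨0, 1, rfl, by simp [hm, Ne.symm hl]⟩, fun c e => ?_⟩
      rw [hm, smul_add, smul_smul, smul_smul, mul_zero] at e
      exact one_ne_zero (P.line_inj e).2
    · refine ⟨(1 : F) • P.e1 + (0 : F) • P.e2, ⟨1, 0, rfl, by simp [hm]⟩, fun c e => ?_⟩
      rw [smul_add, smul_smul, smul_smul] at e
      obtain ⟨e1, e2⟩ := P.line_inj e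
      rcases mul_eq_zero.mp e2.symm with h | h
      · simp [h] at e1
      · exact hm h
  obtain ⟨l', m', rfl, hne⟩ := hw
  obtain ⟨R, hR1, hR2⟩ := exists_fr P.dim (P.iso_line l m) (P.iso_line l' m')
    (by simp [D.add_left, D.add_right, D.smul_left, D.smul_right]) (P.line_ne hlm) hind
  obtain ⟨c, hc⟩ := hsingle R (hR1 ▸ hv)
  rw [hR1, hR2, one_smul, smul_add, smul_smul, smul_smul, add_add_add_comm, ← add_smul, ← add_smul] at hc
  refine hne ?_
  have := huniq _ _ hc
  linear_combination this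

end CfsgLib.KnownSimple.UFour
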