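import Cfsg.Agent.Lib.KnownSimple.PSUFour.Count

set_option autoImplicit false
set_option linter.unusedSectionVars false
set_option linter.unusedSimpArgs false
set_option linter.unnecessarySeqFocus false

/-!
In a small permutation representation the annihilator at a point is everything or lies on a line over
the fixed field.
-/

namespace CfsgLib.KnownSimple.UFour

open CfsgLib.KnownSimple.Unitary
open scoped Pointwise

variable {F V : Type*} [Field F] [Fintype F] [AddCommGroup V] [Module F V] {D : HermData F V}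
  [FiniteDimensional F V]

theorem exists_span_fixed {z : F} (hz : D.σ z ≠ z) (w : F) :
    ∃ a b : F, D.σ a = a ∧ D.σ b = b ∧ w = a + b * z := by
  have hne : z - D.σ z ≠ 0 := sub_ne_zero.mpr (Ne.symm hz)
  set b := (w - D.σ w) / (z - D.σ z) with hb
  have hbf : D.σ b = b := by
    rw [hb, map_div₀, map_sub, map_sub, D.σσ, D.σσ, ← neg_sub w, ← neg_sub z, neg_div_neg_eq]
  refine ⟨w - b * z, b, ?_, hbf, by ring⟩
  rw [map_sub, map_mul, hbf]
  have e : b * (z - D.σ z) = w - D.σ w := div_mul_cancel₀ _ hne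
  linear_combination e

theorem two_eq_zero_of_four (hq : D.q = 4) : (2 : F) = 0 := by
  have h := congrArg (fun n : ℕ => (n : F)) D.card_F
  simp only [FiniteField.cast_card_eq_zero, hq] at h
  have e : (2 : F) ^ 4 = 0 := by rw [h]; norm_num
  exact eq_zero_of_pow_eq_zero e

namespace Fr

variable (P : Fr D) {Ω : Type*} [MulAction D.SUgrp Ω] [Finite Ω]

variable (Ω) in
/-- the degree is below the number of lines -/
def Small : Prop := Nat.card Ω < (D.q + 1) * (D.q ^ 3 + 1)

theorem stays {ω : Ω} (hd : Small (D := D) Ω) {B : F} (hB : B ≠ 0)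
    (hh : ((0 : F), B, (0 : F)) ∈ P.del ω) {g : D.SUgrp} {ρ : (F × F × F) ≃+ (F × F × F)}
    (hl : P.Lev Ω g ρ) (hρ : ρ (0, B, 0) = (0, B, 0))
    (hodd : (2 : F) ≠ 0 → ∃ p : ℕ, Odd p ∧ g ^ p = 1) :
    ∀ H ∈ P.del ω, ρ H ∈ P.del ω := by
  suffices hin : g • ω ∈ P.orb ω by
    intro H hH
    have := (hl.mem ω H).mp hH
    rwa [P.del_orb hin] at this
  by_contra hout
  have hne : P.orb (g • ω) ≠ P.orb ω := fun e => hout (e ▸ P.orb_self (g • ω))
  have hcl := P.nsCl_closed (Ω := Ω) (Qf D (0, B, 0))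
  have hq := D.two_le
  have hQ : Qf D (0, B, 0) ≠ 0 := by simp [Qf, hB]
  have hU : ∀ U : Set Ω, U.ncard ≤ Nat.card Ω := fun U => Set.ncard_le_card U
  have hpos : 0 < Nat.card (P.del ω) := Nat.card_pos
  obtain ⟨c1, c2, c3⟩ := card_sqVals (D := D)
  have hC := card_nsCl (D := D) hB
  set v := (sqVals D).card
  set n := {H | H ∈ nsCl D (Qf D (0, B, 0)) ∧ H ∈ P.del ω}.ncard with hn
  have hn1 : n ≤ Nat.card (P.del ω) :=
    Nat.le_of_succ_le (inter_succ_le _ (zero_notMem_nsCl hQ))
  have h1g : ∃ ρ, P.Lev Ω 1 ρ ∧ ρ (0, B, 0) = (0, B, 0) := ⟨_, Lev.refl P, rfl⟩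
  by_cases h2 : (2 : F) = 0
  · obtain ⟨U, -, hU2⟩ := P.count hcl ω hh (fun H hH => P.ns_conn hB hH) ![1, g]
      (fun i => by fin_cases i; exacts [h1g, ⟨ρ, hl, hρ⟩])
      (fun i j e => by fin_cases i <;> fin_cases j <;> simp_all)
    rcases (by omega : D.q = 2 ∨ 3 ≤ D.q) with hq2 | hq3
    · have hi := inter_two hq2 _ (ann_le (P.stab ω)) hQ
      change 4 * n ≤ 3 * Nat.card (P.del ω) at hi
      rw [hq2] at hC
      have e1 : 2 * (1 * 10) * Nat.card (P.del ω) * 4 ≤ Nat.card Ω * (3 * Nat.card (P.del ω)) := by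
        refine le_trans ?_ (Nat.mul_le_mul (hU U) hi)
        rw [← hn] at hU2
        have : 1 * 10 ≤ (nsCl D (Qf D (0, B, 0))).card := le_trans (Nat.mul_le_mul c3 (by norm_num)) hC
        calc 2 * (1 * 10) * Nat.card (P.del ω) * 4
            ≤ 2 * (nsCl D (Qf D (0, B, 0))).card * Nat.card (P.del ω) * 4 := by gcongr
          _ ≤ U.ncard * n * 4 := Nat.mul_le_mul_right _ hU2
          _ = U.ncard * (4 * n) := by ring
      have hd' : Nat.card Ω < 27 := by simpa [Small, hq2] using hd
      nlinarith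
    · have hv := c2 h2
      have e1 : 2 * ((D.q - 1) * (D.q ^ 3 + D.q)) * Nat.card (P.del ω) ≤ Nat.card Ω * Nat.card (P.del ω) := by
        refine le_trans ?_ (hU2.trans (Nat.mul_le_mul (hU U) hn1))
        gcongr
        exact le_trans (Nat.mul_le_mul_right _ hv) hC
      have e2 := Nat.le_of_mul_le_mul_right e1 hpos
      have hd' : Nat.card Ω < (D.q + 1) * (D.q ^ 3 + 1) := hd
      obtain ⟨j, hj⟩ : ∃ j, D.q = j + 3 := ⟨D.q - 3, by omega⟩
      rw [hj, show j + 3 - 1 = j + 2 by omega] at e2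
      rw [hj] at hd'
      have key : (j + 3 + 1) * ((j + 3) ^ 3 + 1) ≤ 2 * ((j + 2) * ((j + 3) ^ 3 + (j + 3))) := by
        ring_nf; nlinarith
      omega
  · obtain ⟨p, hp, hgp⟩ := hodd h2
    have hne2 : P.orb ((g * g) • ω) ≠ P.orb ω := by
      intro e
      obtain ⟨j, rfl⟩ := hp
      have hj : ∀ i : ℕ, ((g * g) ^ i) • P.orb ω = P.orb ω := by
        intro i
        induction i with
        | zero => simp
        | succ i ih =>
          rw [pow_succ, mul_smul, mul_smul g, hl.orbit, hl.orbit, ← mul_smul g, e, ih]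
      have e3 : g • P.orb ω = P.orb ω := by
        have h := hj (j + 1)
        rwa [← pow_two, ← pow_mul, show 2 * (j + 1) = (2 * j + 1) + 1 by ring, pow_succ, hgp, one_mul] at h
      exact hne (by rw [← hl.orbit, e3])
    obtain ⟨U, -, hU2⟩ := P.count hcl ω hh (fun H hH => P.ns_conn hB hH) ![1, g, g * g]
      (fun i => by
        fin_cases i
        exacts [h1g, ⟨ρ, hl, hρ⟩, ⟨_, Lev.trans P hl hl, by rw [AddEquiv.trans_apply, hρ, hρ]⟩])
      (fun i j e => by
        have hne3 : P.orb ((g * g) • ω) ≠ P.orb (g • ω) := by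
          intro e
          rw [mul_smul, ← hl.orbit, ← hl.orbit] at e
          exact hne (by rw [← hl.orbit]; exact MulAction.injective g e)
        fin_cases i <;> fin_cases j <;> simp_all)
    have hq4 : D.q ≠ 4 := fun h => h2 (two_eq_zero_of_four h)
    have hq2 : D.q ≠ 2 := fun h => h2 (two_eq_zero h)
    rcases (by omega : D.q = 3 ∨ 5 ≤ D.q) with hq3 | hq5
    · have hi := inter_three hq3 _ (ann_le (P.stab ω)) hh hQ
      change 3 * n ≤ 2 * Nat.card (P.del ω) at hi
      rw [hq3] at hC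
      have : 1 * 30 ≤ (nsCl D (Qf D (0, B, 0))).card := le_trans (Nat.mul_le_mul c3 (by norm_num)) hC
      have e1 : 3 * (1 * 30) * Nat.card (P.del ω) * 3 ≤ Nat.card Ω * (2 * Nat.card (P.del ω)) := by
        refine le_trans ?_ (Nat.mul_le_mul (hU U) hi)
        rw [← hn] at hU2
        calc 3 * (1 * 30) * Nat.card (P.del ω) * 3
            ≤ 3 * (nsCl D (Qf D (0, B, 0))).card * Nat.card (P.del ω) * 3 := by gcongr
          _ ≤ U.ncard * n * 3 := Nat.mul_le_mul_right _ hU2
          _ = U.ncard * (3 * n) := by ring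
      have hd' : Nat.card Ω < 112 := by simpa [Small, hq3] using hd
      nlinarith
    · have e1 : 3 * ((nsCl D (Qf D (0, B, 0))).card) * Nat.card (P.del ω) ≤
          Nat.card Ω * Nat.card (P.del ω) := hU2.trans (Nat.mul_le_mul (hU U) hn1)
      have e2 := Nat.le_of_mul_le_mul_right e1 hpos
      have hd' : Nat.card Ω < (D.q + 1) * (D.q ^ 3 + 1) := hd
      have e3 : (D.q - 1) * (D.q ^ 3 + D.q) ≤ 2 * (v * (D.q ^ 3 + D.q)) := by
        rw [← mul_assoc]; exact Nat.mul_le_mul_right _ c1
      obtain ⟨j, hj⟩ : ∃ j, D.q = j + 5 := ⟨D.q - 5, by omega⟩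
      rw [hj, show j + 5 - 1 = j + 4 by omega] at e3
      rw [hj] at hd' hC
      have key : 2 * ((j + 5 + 1) * ((j + 5) ^ 3 + 1)) ≤ 3 * ((j + 4) * ((j + 5) ^ 3 + (j + 5))) := by
        ring_nf; nlinarith
      omega

theorem u_order (y : F) (h2 : (2 : F) ≠ 0) : ∃ p : ℕ, Odd p ∧ P.u y ^ p = 1 := by
  obtain ⟨p, hc⟩ := CharP.exists F
  have hp : p.Prime := CharP.char_prime_of_ne_zero F (CharP.char_ne_zero_of_finite F p)
  refine ⟨p, hp.odd_of_ne_two fun h => h2 ?_, by rw [P.u_pow, CharP.cast_eq_zero, zero_mul, P.u_zero]⟩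
  have := CharP.cast_eq_zero F p
  rw [h] at this
  exact_mod_cast this

theorem u_stays {ω : Ω} (hd : Small (D := D) Ω) {B : F} (hB : B ≠ 0)
    (hh : ((0 : F), B, (0 : F)) ∈ P.del ω) {y : F} (hy : y * B + D.σ (y * B) = 0) :
    ∀ H ∈ P.del ω, uT D y H ∈ P.del ω :=
  P.stays hd hB hh (P.u_lev y) (by rw [uT_apply, hy]; simp) (P.u_order y)

theorem l_stays {ω : Ω} (hd : Small (D := D) Ω) {B : F} (hB : B ≠ 0)
    (hh : ((0 : F), B, (0 : F)) ∈ P.del ω) {y : F} (hy : y * D.σ B + D.σ (y * D.σ B) = 0) :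
    ∀ H ∈ P.del ω, lT D y H ∈ P.del ω :=
  P.stays hd hB hh (P.l_lev y) (by rw [lT_apply, hy]; simp) (P.swap.u_order y)

theorem d_stays {ω : Ω} (hd : Small (D := D) Ω) {B : F} (hB : B ≠ 0)
    (hh : ((0 : F), B, (0 : F)) ∈ P.del ω) (h2 : (2 : F) = 0) {t : F} (ht : D.σ t = t) (ht0 : t ≠ 0) :
    ∀ H ∈ P.del ω, (H.1 / (t * t), H.2.1, H.2.2 * (t * t)) ∈ P.del ω := by
  obtain ⟨g, hg⟩ := P.d_lev (Ω := Ω) (c1 := t) (c2 := t⁻¹) ht (by rw [map_inv₀, ht]) ht0 (inv_ne_zero ht0)
  intro H hH
  have := P.stays hd hB hh hg (by simp [dT, mul_inv_cancel₀ ht0]) (fun h => absurd h2 h) H hH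
  simpa [dT, mul_inv_cancel₀ ht0, div_eq_mul_inv, mul_inv_rev, inv_inv] using this

/-- all axes lie in the annihilator as soon as it leaves the line of `(0, B, 0)` -/
theorem axes {ω : Ω} (hd : Small (D := D) Ω) {B : F} (hB : B ≠ 0)
    (hh : ((0 : F), B, (0 : F)) ∈ P.del ω)
    (hH : ∃ H ∈ P.del ω, ¬ ∃ r, D.σ r = r ∧ H = r • ((0 : F), B, (0 : F))) :
    ∀ r, D.σ r = r → (r, (0 : F), (0 : F)) ∈ P.del ω ∧ ((0 : F), (0 : F), r) ∈ P.del ω ∧
      ((0 : F), r * D.σ (sk D / B), (0 : F)) ∈ P.del ω := by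
  set S := P.del ω with hS
  have hs := sk_skew (D := D)
  have hs0 := sk_ne (D := D)
  have hσB : D.σ B ≠ 0 := (map_ne_zero D.σ).mpr hB
  set x := sk D / B with hx
  have hxB : x * B = sk D := div_mul_cancel₀ _ hB
  have hx0 : x ≠ 0 := div_ne_zero hs0 hB
  set ν := x * D.σ x with hν
  have hνf : D.σ ν = ν := by rw [hν, map_mul, D.σσ, mul_comm]
  have hν0 : ν ≠ 0 := mul_ne_zero hx0 ((map_ne_zero D.σ).mpr hx0)
  let T : F × F × F → F := fun H => x * H.2.1 + D.σ (x * H.2.1)
  have hTf : ∀ H, D.σ (T H) = T H := fun H => by simp only [T, map_add, D.σσ]; ring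
  have du : ∀ r, D.σ r = r → ∀ H ∈ S,
      ((0 : F), -(H.1 * r * D.σ x), H.1 * r * r * ν - r * T H) ∈ S := by
    intro r hr H hHS
    have hy : r * x * B + D.σ (r * x * B) = 0 := by rw [mul_assoc, hxB, map_mul, hr, hs]; ring
    have := S.sub_mem (P.u_stays hd hB hh hy H hHS) hHS
    convert this using 1
    refine Prod.ext ?_ (Prod.ext ?_ ?_) <;> simp [uT_apply, hr, T, hν] <;> ring
  have dl : ∀ r, D.σ r = r → ∀ H ∈ S,
      (H.2.2 * r * r * ν - r * T H, -(H.2.2 * r * D.σ x), (0 : F)) ∈ S := by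
    intro r hr H hHS
    have hy : r * D.σ x * D.σ B + D.σ (r * D.σ x * D.σ B) = 0 := by
      rw [mul_assoc, ← map_mul, hxB, map_mul, D.σσ, hr, hs]; ring
    have := S.sub_mem (P.l_stays hd hB hh hy H hHS) hHS
    convert this using 1
    refine Prod.ext ?_ (Prod.ext ?_ ?_) <;>
      simp [lT_apply, hr, T, hν, (P.del_real hHS).2] <;> ring
  -- a non-zero element on the last axis and the whole first axis suffice
  suffices hmain : (∃ c, c ≠ 0 ∧ D.σ c = c ∧ ((0 : F), (0 : F), c) ∈ S) ∧
      ∀ r, D.σ r = r → (r, (0 : F), (0 : F)) ∈ S by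
    obtain ⟨⟨c, hc0, hc, hcS⟩, hA⟩ := hmain
    have hB' : ∀ r, D.σ r = r → ((0 : F), r * D.σ x, (0 : F)) ∈ S := by
      intro r hr
      have hr' : D.σ (-r / c) = -r / c := by simp [hr, hc]
      have h1 := dl _ hr' _ hcS
      have h2 := hA (c * (-r / c) * (-r / c) * ν) (by simp [hc, hr, hνf])
      have := S.sub_mem h1 h2
      convert this using 1
      refine Prod.ext ?_ (Prod.ext ?_ ?_) <;> simp [T] <;> field_simp
    intro r hr
    refine ⟨hA r hr, ?_, hB' r hr⟩
    have hr' : D.σ (r / ν) = r / ν := by simp [hr, hνf]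
    have h1 := du 1 (map_one _) _ (hA _ hr')
    have := S.add_mem h1 (hB' _ hr')
    convert this using 1
    refine Prod.ext ?_ (Prod.ext ?_ ?_) <;> simp [T, hν0] <;> ring
  obtain ⟨H, hHS, hnot⟩ := hH
  obtain ⟨hH1, hH3⟩ := P.del_real hHS
  have hT0 : H.1 = 0 → H.2.2 = 0 → T H ≠ 0 := by
    intro h1 h3 h
    refine hnot ⟨H.2.1 / B, ?_, Prod.ext (by simp [h1]) (Prod.ext (by simp [hB]) (by simp [h3]))⟩
    have e : x * H.2.1 = sk D * (H.2.1 / B) := by rw [hx]; field_simp
    rw [show T H = x * H.2.1 + D.σ (x * H.2.1) from rfl, e, map_mul, hs] at h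
    have : sk D * (H.2.1 / B - D.σ (H.2.1 / B)) = 0 := by linear_combination h
    exact (sub_eq_zero.mp ((mul_eq_zero.mp this).resolve_left hs0)).symm
  by_cases h2 : (2 : F) = 0
  · -- characteristic two
    rcases (by have := D.two_le; omega : D.q = 2 ∨ 3 ≤ D.q) with hq2 | hq3
    · have hone : ∀ a : F, D.σ a = a → a ≠ 0 → a = 1 := fun a ha ha0 => (fixed_two hq2 ha).resolve_left ha0
      have hs1 : sk D = 1 := hone _ (by rw [hs]; linear_combination -sk D * h2) hs0
      have hν1 : ν = 1 := hone _ hνf hν0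
      have hxσ : D.σ x = B := by
        have e : x * D.σ x = x * B := by rw [← hν, hν1, hxB, hs1]
        exact mul_left_cancel₀ hx0 e
      have hone' : ((1 : F), (0 : F), (0 : F)) ∈ S → ((0 : F), (0 : F), (1 : F)) ∈ S := by
        intro h
        have := S.add_mem (du 1 (map_one _) _ h) hh
        convert this using 1
        refine Prod.ext ?_ (Prod.ext ?_ ?_) <;> simp [T, hν1, hxσ]
      have hC1 : ((0 : F), (0 : F), (1 : F)) ∈ S := by
        by_contra hno
        have hexc : ∀ K ∈ S, ¬ (∃ r, D.σ r = r ∧ K = r • ((0 : F), B, (0 : F))) → Qf D K = 0 := by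
          intro K hK hKn
          obtain ⟨k1, k3⟩ := P.del_real hK
          rcases fixed_two hq2 k1 with a0 | a1
          · exfalso
            rcases fixed_two hq2 (hTf K) with t0 | t1
            · have e : x * K.2.1 = K.2.1 / B := by rw [hx, hs1]; ring
              have hr : D.σ (K.2.1 / B) = K.2.1 / B := by
                simp only [T, e] at t0
                linear_combination t0 - (K.2.1 / B) * h2
              rcases fixed_two hq2 k3 with c0 | c1
              · exact hKn ⟨_, hr, Prod.ext (by simp [a0]) (Prod.ext (by simp [hB]) (by simp [c0]))⟩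
              · rcases fixed_two hq2 hr with r0 | r1
                · refine hno ?_
                  convert hK using 1
                  exact Prod.ext a0.symm (Prod.ext ((div_eq_zero_iff.mp r0).resolve_right hB).symm c1.symm)
                · refine hno ?_
                  convert S.sub_mem hK hh using 1
                  refine Prod.ext ?_ (Prod.ext ?_ ?_) <;> simp [a0, c1, (div_eq_one_iff_eq hB).mp r1]
            · refine hno ?_
              convert S.neg_mem (du 1 (map_one _) K hK) using 1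
              refine Prod.ext ?_ (Prod.ext ?_ ?_) <;> simp [a0, t1]
          · rcases fixed_two hq2 (hTf K) with t0 | t1
            · exfalso
              refine hno ?_
              convert S.add_mem (du 1 (map_one _) K hK) hh using 1
              refine Prod.ext ?_ (Prod.ext ?_ ?_) <;> simp [a1, t0, hν1, hxσ]
            · rcases fixed_two hq2 k3 with c0 | c1
              · exfalso
                refine hno (hone' ?_)
                convert S.neg_mem (dl 1 (map_one _) K hK) using 1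
                refine Prod.ext ?_ (Prod.ext ?_ ?_) <;> simp [c0, t1]
              · have hB1 : K.2.1 * D.σ K.2.1 = 1 := hone _ (by rw [map_mul, D.σσ, mul_comm]) (by
                  refine mul_ne_zero ?_ ((map_ne_zero D.σ).mpr ?_) <;>
                  · intro h; simp [T, h] at t1)
                simp [Qf, a1, c1, hB1]
        have hQ : Qf D (0, B, 0) ≠ 0 := by simp [Qf, hB]
        obtain ⟨U, -, hU2⟩ := P.count (P.nsCl_closed (Ω := Ω) _) ω hh (fun K hK => P.ns_conn hB hK) ![(1 : D.SUgrp)]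
          (fun i => by fin_cases i; exact ⟨_, Lev.refl P, rfl⟩) (fun i j _ => Subsingleton.elim i j)
        have hn : {K | K ∈ nsCl D (Qf D (0, B, 0)) ∧ K ∈ S}.ncard ≤ 1 := by
          refine (Set.ncard_le_ncard (t := {((0 : F), B, (0 : F))}) ?_ (Set.toFinite _)).trans_eq (Set.ncard_singleton _)
          intro K hK
          obtain ⟨-, r, -, hr0, e⟩ := mem_nsCl.mp hK.1
          have hK0 : Qf D K ≠ 0 := by rw [e]; exact mul_ne_zero (pow_ne_zero 2 hr0) hQ
          obtain ⟨r', hr', rfl⟩ : ∃ r, D.σ r = r ∧ K = r • ((0 : F), B, (0 : F)) :=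
            not_not.mp fun h => hK0 (hexc K hK.2 h)
          rcases fixed_two hq2 hr' with rfl | rfl
          · simp [Qf] at hK0
          · simp
        have h4 : 4 ≤ Nat.card S := by
          classical
          have hsub : ((({0, (0, B, 0), H, H + (0, B, 0)} : Finset (F × F × F))) : Set (F × F × F)) ⊆ S := by
            intro K hK
            simp only [Finset.coe_insert, Finset.coe_singleton, Set.mem_insert_iff, Set.mem_singleton_iff] at hK
            rcases hK with rfl | rfl | rfl | rfl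
            exacts [S.zero_mem, hh, hHS, S.add_mem hHS hh]
          have h := Set.ncard_le_ncard hsub (Set.toFinite _)
          rw [Set.ncard_coe_finset] at h
          refine le_trans (le_of_eq ?_) h
          have n0 : H ≠ 0 := fun h => hnot ⟨0, map_zero _, by simp [h]⟩
          have n1 : H ≠ (0, B, 0) := fun h => hnot ⟨1, map_one _, by simp [h]⟩
          have n2 : H + (0, B, 0) ≠ 0 := fun h => hnot ⟨-1, by simp, by
            rw [neg_one_smul]; exact eq_neg_of_add_eq_zero_left h⟩
          have n3 : ((0 : F), B, (0 : F)) ≠ 0 := by simp [hB]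
          rw [Finset.card_insert_of_notMem, Finset.card_insert_of_notMem, Finset.card_insert_of_notMem,
            Finset.card_singleton]
          · simp only [Finset.mem_singleton, left_eq_add]; exact n3
          · simp only [Finset.mem_insert, Finset.mem_singleton, right_eq_add]
            exact not_or.mpr ⟨Ne.symm n1, n0⟩
          · simp only [Finset.mem_insert, Finset.mem_singleton]
            exact not_or.mpr ⟨Ne.symm n3, not_or.mpr ⟨Ne.symm n0, Ne.symm n2⟩⟩
        have hC := card_nsCl (D := D) hB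
        have h10 : 1 * 10 ≤ (nsCl D (Qf D (0, B, 0))).card :=
          le_trans (Nat.mul_le_mul (card_sqVals (D := D)).2.2 (by rw [hq2]; norm_num)) hC
        have e1 : 1 * (1 * 10) * 4 ≤ Nat.card Ω * 1 :=
          le_trans (Nat.mul_le_mul (Nat.mul_le_mul_left 1 h10) h4)
            (hU2.trans (Nat.mul_le_mul (Set.ncard_le_card U) hn))
        have hd' : Nat.card Ω < 27 := by simpa [Small, hq2] using hd
        omega
      refine ⟨⟨1, one_ne_zero, map_one _, hC1⟩, fun r hr => ?_⟩
      rcases fixed_two hq2 hr with rfl | rfl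
      · exact S.zero_mem
      · have := S.add_mem (dl 1 (map_one _) _ hC1) hh
        convert this using 1
        refine Prod.ext ?_ (Prod.ext ?_ ?_) <;> simp [T, hν1, hxσ]
    · obtain ⟨t, ht, ht0, ht1⟩ := D.exists_fixed_ne hq3
      have htt : t * t - 1 ≠ 0 := by
        intro e
        have : (t - 1) * (t - 1) = 0 := by linear_combination e - (t - 1) * h2
        exact sub_ne_zero.mpr ht1 (mul_self_eq_zero.mp this)
      have dd : ∀ K ∈ S, (K.1 / (t * t) - K.1, (0 : F), K.2.2 * (t * t) - K.2.2) ∈ S := by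
        intro K hK
        convert S.sub_mem (P.d_stays hd hB hh h2 ht ht0 K hK) hK using 1
        refine Prod.ext ?_ (Prod.ext ?_ ?_) <;> simp
      have hcmem : ∀ K ∈ S, K.1 = 0 → ((0 : F), (0 : F), K.2.2 * (t * t - 1)) ∈ S := by
        intro K hK h1
        convert dd K hK using 1
        refine Prod.ext ?_ (Prod.ext ?_ ?_) <;> simp [h1, mul_sub]
      obtain ⟨c, hc0, hc, hcS⟩ : ∃ c, c ≠ 0 ∧ D.σ c = c ∧ ((0 : F), (0 : F), c) ∈ S := by
        by_cases hz : H.1 = 0 ∧ T H = 0
        · have h3 : H.2.2 ≠ 0 := fun h3 => hT0 hz.1 h3 hz.2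
          exact ⟨_, mul_ne_zero h3 htt, by simp [hH3, ht], hcmem H hHS hz.1⟩
        · obtain ⟨r, hr, hne⟩ : ∃ r, D.σ r = r ∧ H.1 * r * r * ν - r * T H ≠ 0 := by
            by_contra hcon
            push Not at hcon
            have a1 := hcon 1 (map_one _)
            have a2 := hcon t ht
            have : H.1 * (ν * (t * (t - 1))) = 0 := by linear_combination a2 - t * a1
            have hA : H.1 = 0 := (mul_eq_zero.mp this).resolve_right
              (mul_ne_zero hν0 (mul_ne_zero ht0 (sub_ne_zero.mpr ht1)))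
            exact hz ⟨hA, by rw [hA] at a1; linear_combination -a1⟩
          exact ⟨_, mul_ne_zero hne htt, by simp [hr, hH1, hνf, hTf H, ht],
            hcmem _ (du r hr H hHS) rfl⟩
      refine ⟨⟨c, hc0, hc, hcS⟩, fun r hr => ?_⟩
      have hk : c * ν * (1 / (t * t) - 1) ≠ 0 := by
        refine mul_ne_zero (mul_ne_zero hc0 hν0) ?_
        rw [div_sub_one (mul_ne_zero ht0 ht0)]
        exact div_ne_zero (sub_ne_zero.mpr (Ne.symm (sub_ne_zero.mp htt))) (mul_ne_zero ht0 ht0)
      have hR : ringChar F = 2 := by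
        obtain ⟨p, hc⟩ := CharP.exists F
        have hp : p.Prime := CharP.char_prime_of_ne_zero F (CharP.char_ne_zero_of_finite F p)
        have hdiv := (CharP.cast_eq_zero_iff F p 2).mp (by exact_mod_cast h2)
        rw [ringChar.eq F p, (Nat.prime_dvd_prime_iff_eq hp Nat.prime_two).mp hdiv]
      obtain ⟨w, hw⟩ := FiniteField.isSquare_of_char_two hR (r / (c * ν * (1 / (t * t) - 1)))
      have hwf : D.σ w = w := by
        have e : D.σ w * D.σ w = w * w := by
          rw [← map_mul, ← hw]; simp [hr, hc, hνf, ht]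
        have : (D.σ w - w) * (D.σ w - w) = 0 := by linear_combination e + (w * w - w * D.σ w) * h2
        exact sub_eq_zero.mp (mul_self_eq_zero.mp this)
      rw [div_eq_iff hk] at hw
      convert dd _ (dl w hwf _ hcS) using 1
      refine Prod.ext ?_ (Prod.ext ?_ ?_) <;> simp [T]
      linear_combination hw
  · -- odd characteristic
    have even_u : ∀ K ∈ S, ((0 : F), (0 : F), 2 * (K.1 * ν)) ∈ S := fun K hK => by
      convert S.add_mem (du 1 (map_one _) K hK) (du (-1) (by simp) K hK) using 1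
      refine Prod.ext ?_ (Prod.ext ?_ ?_) <;> simp; ring
    have even_l : ∀ r, D.σ r = r → ∀ K ∈ S, (2 * (K.2.2 * r * r * ν), (0 : F), (0 : F)) ∈ S := fun r hr K hK => by
      convert S.add_mem (dl r hr K hK) (dl (-r) (by simp [hr]) K hK) using 1
      refine Prod.ext ?_ (Prod.ext ?_ ?_) <;> simp; ring
    obtain ⟨c, hc0, hc, hcS⟩ : ∃ c, c ≠ 0 ∧ D.σ c = c ∧ ((0 : F), (0 : F), c) ∈ S := by
      by_cases hA : H.1 = 0
      · by_cases hT : T H = 0
        · have h3 : H.2.2 ≠ 0 := fun h3 => hT0 hA h3 hT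
          have := even_u _ (even_l 1 (map_one _) H hHS)
          exact ⟨_, mul_ne_zero h2 (mul_ne_zero (mul_ne_zero h2 (by simp [h3, hν0])) hν0),
            by simp [hH3, hνf, map_ofNat], this⟩
        · refine ⟨-T H, neg_ne_zero.mpr hT, by simp [hTf H], ?_⟩
          convert du 1 (map_one _) H hHS using 1
          refine Prod.ext ?_ (Prod.ext ?_ ?_) <;> simp [hA]
      · exact ⟨_, mul_ne_zero h2 (mul_ne_zero hA hν0), by simp [hH1, hνf, map_ofNat], even_u H hHS⟩
    refine ⟨⟨c, hc0, hc, hcS⟩, fun r hr => ?_⟩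
    have hu : D.σ (r / (2 * c * ν)) = r / (2 * c * ν) := by simp [hr, hc, hνf, map_ofNat]
    have h1 := even_l ((r / (2 * c * ν) + 1) / 2) (by simp [hu, map_div₀, map_ofNat]) _ hcS
    have h3 := even_l ((r / (2 * c * ν) - 1) / 2) (by simp [hu, map_div₀, map_ofNat]) _ hcS
    convert S.sub_mem h1 h3 using 1
    refine Prod.ext ?_ (Prod.ext ?_ ?_) <;> simp
    field_simp
    ring

theorem full_of_mid {ω : Ω} (hd : Small (D := D) Ω) {B : F} (hB : B ≠ 0)
    (hh : ((0 : F), B, (0 : F)) ∈ P.del ω)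
    (hH : ∃ H ∈ P.del ω, ¬ ∃ r, D.σ r = r ∧ H = r • ((0 : F), B, (0 : F))) :
    ∀ H, IsReal D H → H ∈ P.del ω := by
  have hax := P.axes hd hB hh hH
  have hs := sk_skew (D := D)
  have hs0 := sk_ne (D := D)
  have hσB : D.σ B ≠ 0 := (map_ne_zero D.σ).mpr hB
  obtain ⟨z, hz, hzB, hzz⟩ : ∃ z : F, D.σ z ≠ z ∧ (∀ r, D.σ r = r → ((0 : F), r * B, (0 : F)) ∈ P.del ω) ∧
      (∀ r, D.σ r = r → ((0 : F), r * (z * B), (0 : F)) ∈ P.del ω) := by
    by_cases h2 : (2 : F) = 0
    · have hk : D.σ (sk D / (B * D.σ B)) = sk D / (B * D.σ B) := by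
        rw [map_div₀, map_mul, D.σσ, hs, mul_comm (D.σ B), show -sk D = sk D by linear_combination -sk D * h2]
      have hkB : D.σ (sk D / B) = sk D / (B * D.σ B) * B := by
        rw [map_div₀, hs, show -sk D = sk D by linear_combination -sk D * h2]
        field_simp
      have hBax : ∀ r, D.σ r = r → ((0 : F), r * B, (0 : F)) ∈ P.del ω := by
        intro r hr
        have := (hax (r / (sk D / (B * D.σ B))) (by rw [map_div₀, hr, hk])).2.2
        rwa [hkB, ← mul_assoc, div_mul_cancel₀ _ (div_ne_zero hs0 (mul_ne_zero hB hσB))] at this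
      obtain ⟨e, he⟩ := D.exists_trace_one
      set y := e / B with hy
      have hyB : y * B = e := div_mul_cancel₀ _ hB
      set g := P.u y
      set ω' := g⁻¹ • ω with hω'
      have hmem : ∀ K, K ∈ P.del ω' ↔ uT D y K ∈ P.del ω := fun K => by
        rw [(P.u_lev y).mem ω' K, hω', smul_inv_smul]
      have h1 : ((0 : F), B, (0 : F)) ∈ P.del ω' := by
        rw [hmem]
        convert (P.del ω).add_mem hh ((hax (-1) (by simp)).2.1) using 1
        rw [uT_apply, hyB]
        refine Prod.ext ?_ (Prod.ext ?_ ?_) <;> simp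
        linear_combination -he
      have h3 : ((0 : F), (0 : F), (1 : F)) ∈ P.del ω' := by
        rw [hmem]
        convert (hax 1 (map_one _)).2.1 using 1
        rw [uT_apply]; simp
      have hax' := P.axes hd hB h1 ⟨_, h3, fun ⟨r, _, e⟩ => by simp at e⟩
      refine ⟨D.σ y / B, ?_, hBax, fun r hr => ?_⟩
      · intro hf
        rw [hy, map_div₀, map_div₀, map_div₀, D.σσ, D.σσ] at hf
        field_simp at hf
        have : e - D.σ e = 0 := by linear_combination hf
        exact one_ne_zero (α := F) (by linear_combination -he + this + D.σ e * h2)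
      · rw [div_mul_cancel₀ _ hB]
        have h4 := (hmem _).mp (hax' r hr).1
        have hN : D.σ (r * (y * D.σ y)) = r * (y * D.σ y) := by simp [hr, mul_comm]
        convert (P.del ω).add_mem (hax r hr).1 ((P.del ω).sub_mem ((hax _ hN).2.1) h4) using 1
        rw [uT_apply]
        refine Prod.ext ?_ (Prod.ext ?_ ?_) <;> simp
    · have hsx : D.σ (sk D / B) = -(sk D) / (B * D.σ B) * B := by
        rw [map_div₀, hs]; field_simp
      have hne : D.σ (-(sk D) / (B * D.σ B)) ≠ -(sk D) / (B * D.σ B) := by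
        rw [map_div₀, map_neg, map_mul, D.σσ, hs, mul_comm (D.σ B)]
        intro e
        rw [div_left_inj' (mul_ne_zero hB hσB)] at e
        exact hs0 ((mul_eq_zero.mp (show (2 : F) * sk D = 0 by linear_combination e)).resolve_left h2)
      set B' := D.σ (sk D / B) with hB'
      have hB'0 : B' ≠ 0 := (map_ne_zero D.σ).mpr (div_ne_zero hs0 hB)
      have h' : ((0 : F), B', (0 : F)) ∈ P.del ω := by simpa using (hax 1 (map_one _)).2.2
      have hax' := P.axes hd hB'0 h' ⟨_, hh, fun ⟨r, hr, e⟩ => by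
        simp [Prod.ext_iff] at e
        rw [hsx] at e
        have e' : 1 = r * (-(sk D) / (B * D.σ B)) := by
          apply mul_right_cancel₀ hB; rw [one_mul, mul_assoc]; exact e
        refine hne ?_
        have hr0 : r ≠ 0 := by rintro rfl; simp at e'
        rw [show -(sk D) / (B * D.σ B) = r⁻¹ from eq_inv_of_mul_eq_one_right e'.symm, map_inv₀, hr]⟩
      have hback : D.σ (sk D / B') = -B := by
        rw [hB', map_div₀, map_div₀, map_div₀, D.σσ, D.σσ, hs]
        field_simp
      refine ⟨-(sk D) / (B * D.σ B), hne, fun r hr => ?_, fun r hr => ?_⟩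
      · have := (hax' (-r) (by simp [hr])).2.2
        rwa [hback, neg_mul_neg] at this
      · have := (hax r hr).2.2
        rwa [hsx] at this
  intro H hH
  obtain ⟨a, b, ha, hb, e⟩ := exists_span_fixed hz (H.2.1 / B)
  have := (P.del ω).add_mem ((P.del ω).add_mem (hax H.1 hH.1).1 (hax H.2.2 hH.2).2.1)
    ((P.del ω).add_mem (hzB a ha) (hzz b hb))
  convert this using 1
  refine Prod.ext ?_ (Prod.ext ?_ ?_) <;> simp
  rw [← mul_assoc, ← add_mul, ← e, div_mul_cancel₀ _ hB]

theorem prop_of_singular {H K : F × F × F} (hH : IsReal D H) (hK : IsReal D K) (h1 : Qf D H = 0)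
    (h2 : Qf D K = 0) (h3 : Qf D (H + K) = 0) (hne : H ≠ 0) : ∃ r, D.σ r = r ∧ K = r • H := by
  obtain ⟨A, B, C⟩ := H
  obtain ⟨A', B', C'⟩ := K
  obtain ⟨hA, hC⟩ := hH
  obtain ⟨hA', hC'⟩ := hK
  simp only [Qf, Prod.mk_add_mk, map_add] at h1 h2 h3 hA hC hA' hC' ⊢
  by_cases hC0 : C = 0
  · subst hC0
    have hB : B = 0 := by simpa using h1
    subst hB
    have hA0 : A ≠ 0 := fun h => hne (by simp [h])
    have hp : A * C' = 0 := by simp at h3; linear_combination h3 - h2
    have hC'0 : C' = 0 := (mul_eq_zero.mp hp).resolve_left hA0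
    subst hC'0
    have hB' : B' = 0 := by simpa using h2
    subst hB'
    exact ⟨A' / A, by simp [hA, hA'], by simp [hA0]⟩
  · refine ⟨C' / C, by simp [hC, hC'], ?_⟩
    have hn : (B * C' - B' * C) * D.σ (B * C' - B' * C) = 0 := by
      rw [map_sub, map_mul, map_mul, hC, hC']
      linear_combination -(C' * C') * h1 - (C * C) * h2 + C * C' * (h3 - h1 - h2)
    have hB : B * C' = B' * C := by
      rcases mul_eq_zero.mp hn with h | h
      · exact sub_eq_zero.mp h
      · exact sub_eq_zero.mp ((map_eq_zero D.σ).mp h)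
    have hB' : B' = C' / C * B := by field_simp; linear_combination -hB
    refine Prod.ext ?_ (Prod.ext ?_ ?_)
    · show A' = C' / C * A
      by_cases hC'0 : C' = 0
      · subst hC'0
        have hb : B' = 0 := by simpa using hB'
        subst hb
        have hp : A' * C = 0 := by simp at h3; linear_combination h3 - h1
        simp [(mul_eq_zero.mp hp).resolve_right hC0]
      · apply mul_right_cancel₀ hC'0
        have e : A' * C' = B' * D.σ B' := sub_eq_zero.mp h2
        rw [e, hB', map_mul, map_div₀, hC, hC']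
        field_simp
        linear_combination -h1
    · exact hB'
    · show C' = C' / C * C
      rw [div_mul_cancel₀ _ hC0]

/-- the dichotomy -/
theorem shape (hd : Small (D := D) Ω) (ω : Ω) :
    (∀ H, IsReal D H → H ∈ P.del ω) ∨
      ∀ H ∈ P.del ω, H ≠ 0 → ∀ K ∈ P.del ω, ∃ r, D.σ r = r ∧ K = r • H := by
  by_cases hns : ∀ H ∈ P.del ω, Qf D H = 0
  · exact Or.inr fun H hH hne K hK => prop_of_singular (P.del_real hH) (P.del_real hK) (hns H hH) (hns K hK)
      (hns _ ((P.del ω).add_mem hH hK)) hne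
  push Not at hns
  obtain ⟨H, hH, hq⟩ := hns
  obtain ⟨B, hB, g, ρ, hl, e⟩ := P.exists_rel_mid (Ω := Ω) (P.del_real hH) hq
  have hh : ((0 : F), B, (0 : F)) ∈ P.del (g • ω) := e ▸ (hl.mem ω H).mp hH
  by_cases hline : ∃ K ∈ P.del (g • ω), ¬ ∃ r, D.σ r = r ∧ K = r • ((0 : F), B, (0 : F))
  · refine Or.inl fun K hK => ?_
    rw [hl.mem]
    exact P.full_of_mid hd hB hh hline _ ((hl.real K).mpr hK)
  · push Not at hline
    refine Or.inr fun K hK hK0 L hL => ?_
    obtain ⟨r, hr, e1⟩ := hline _ ((hl.mem ω K).mp hK)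
    obtain ⟨r', hr', e2⟩ := hline _ ((hl.mem ω L).mp hL)
    have hr0 : r ≠ 0 := by
      rintro rfl
      rw [zero_smul] at e1
      exact hK0 (ρ.map_eq_zero_iff.mp e1)
    refine ⟨r' / r, by rw [map_div₀, hr, hr'], ρ.injective ?_⟩
    rw [hl.homog _ (by rw [map_div₀, hr, hr']), e1, e2, smul_smul, div_mul_cancel₀ _ hr0]

end Fr

end CfsgLib.KnownSimple.UFour
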